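import Cfsg.Agent.Lib.Local.DihedralSwap.Setup

/-!
# The involutions of the centres of `P` and of `Q`
-/

namespace Cfsg.Lib.Local.DihedralSwap

open Subgroup

variable {G : Type*} [Group G]

/-- The subgroup of elements of order at most two in the centre of `A`. -/
def oZ (A : Subgroup G) : Subgroup G where
  carrier := {x | x ∈ A ∧ x * x = 1 ∧ ∀ p ∈ A, p * x = x * p}
  one_mem' := ⟨one_mem A, one_mul 1, fun p _ => by simp⟩
  mul_mem' := by
    rintro x y ⟨hx, hx2, hxc⟩ ⟨hy, hy2, hyc⟩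
    refine ⟨mul_mem hx hy, ?_, fun p hp => ?_⟩
    · calc x * y * (x * y) = x * (y * x) * y := by group
        _ = x * (x * y) * y := by rw [hxc y hy]
        _ = (x * x) * (y * y) := by group
        _ = 1 := by rw [hx2, hy2, one_mul]
    · rw [← mul_assoc, hxc p hp, mul_assoc, hyc p hp, mul_assoc]
  inv_mem' := by
    rintro x ⟨hx, hx2, hxc⟩
    rw [inv_eq_of_mul_eq_one_right hx2]
    exact ⟨hx, hx2, hxc⟩

theorem mem_oZ {A : Subgroup G} {x : G} :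
    x ∈ oZ A ↔ x ∈ A ∧ x * x = 1 ∧ ∀ p ∈ A, p * x = x * p := Iff.rfl

theorem oZ_le (A : Subgroup G) : oZ A ≤ A := fun _ h => h.1

theorem inv_eq_self_of_sq {x : G} (h : x * x = 1) : x⁻¹ = x := inv_eq_of_mul_eq_one_right h

theorem commute_of_sq {A : Subgroup G} (h : ∀ x ∈ A, x * x = 1) {x y : G} (hx : x ∈ A)
    (hy : y ∈ A) : x * y = y * x := by
  have := h _ (mul_mem hx hy)
  have h' : x * y = (x * y)⁻¹ := (inv_eq_self_of_sq this).symm
  rwa [mul_inv_rev, inv_eq_self_of_sq (h x hx), inv_eq_self_of_sq (h y hy)] at h'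

theorem cj_oZ_le {g : G} {A : Subgroup G} (h : cj g A = A) : cj g (oZ A) ≤ oZ A := by
  intro x hx
  obtain ⟨v, ⟨hv, hv2, hvc⟩, rfl⟩ := mem_cj_iff_exists.1 hx
  refine ⟨conj_mem_of_cj_eq h hv, ?_, fun p hp => ?_⟩
  · calc g * v * g⁻¹ * (g * v * g⁻¹) = g * (v * v) * g⁻¹ := by group
      _ = 1 := by rw [hv2]; group
  · have hp' : g⁻¹ * p * g ∈ A := by
      have := conj_mem_of_cj_eq (cj_inv_self h) hp
      simpa using this
    calc p * (g * v * g⁻¹) = g * ((g⁻¹ * p * g) * v) * g⁻¹ := by group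
      _ = g * (v * (g⁻¹ * p * g)) * g⁻¹ := by rw [hvc _ hp']
      _ = g * v * g⁻¹ * p := by group

theorem cj_oZ [Finite G] {g : G} {A : Subgroup G} (h : cj g A = A) : cj g (oZ A) = oZ A :=
  cj_eq_of_le (cj_oZ_le h)

theorem index2 [Finite G] {A B : Subgroup G} (hAB : A ≤ B) (h : Nat.card B = 2 * Nat.card A)
    {x y : G} (hx : x ∈ B) (hy : y ∈ B) (hxA : x ∉ A) (hyA : y ∉ A) : x⁻¹ * y ∈ A := by
  have hi : (A.subgroupOf B).index = 2 := by
    have := (A.subgroupOf B).card_mul_index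
    rw [Nat.card_congr (Subgroup.subgroupOfEquivOfLe hAB).toEquiv, h] at this
    rw [mul_comm 2] at this
    exact Nat.eq_of_mul_eq_mul_left Nat.card_pos this
  have := (Subgroup.mul_mem_iff_of_index_two hi (a := (⟨x, hx⟩ : B)⁻¹) (b := ⟨y, hy⟩)).2
    (by simp [Subgroup.mem_subgroupOf, hxA, hyA])
  simpa [Subgroup.mem_subgroupOf] using this

theorem inverts_of_mem_zpowers {a w k : G} (h : a * w * a⁻¹ = w⁻¹)
    (hk : k ∈ Subgroup.zpowers w) : a * k * a⁻¹ = k⁻¹ := by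
  obtain ⟨m, rfl⟩ := Subgroup.mem_zpowers_iff.1 hk
  rw [← conj_zpow, h, inv_zpow]

theorem commute_of_mem_zpowers {a w k : G} (h : a * w = w * a)
    (hk : k ∈ Subgroup.zpowers w) : a * k = k * a := by
  obtain ⟨m, rfl⟩ := Subgroup.mem_zpowers_iff.1 hk
  exact (Commute.zpow_right h m).eq

variable {H P Q : Subgroup G} {y : G} {Gen : G → Prop} (hs : IsSwap H P Q y Gen)
include hs

theorem IsSwap.oZP_ne_bot [Finite G] : oZ P ≠ ⊥ := by
  have hP1 : P ≠ ⊥ := fun h => hs.Q_ne (le_bot_iff.1 (h ▸ hs.QP))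
  haveI : Fact (Nat.Prime 2) := ⟨Nat.prime_two⟩
  haveI : Nontrivial P := (Subgroup.nontrivial_iff_ne_bot P).2 hP1
  haveI := hs.p2.center_nontrivial
  have hc : IsPGroup 2 (Subgroup.center P) := hs.p2.to_subgroup _
  obtain ⟨m, hm0, hm⟩ := IsPGroup.exists_card_eq hc |>.imp fun m hm =>
    (⟨fun h0 => by
      rw [h0, pow_zero] at hm
      exact absurd hm (Finite.one_lt_card).ne', hm⟩ : m ≠ 0 ∧ Nat.card (Subgroup.center P) = 2 ^ m)
  obtain ⟨x, hx⟩ := exists_prime_orderOf_dvd_card' (G := Subgroup.center P) 2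
    (hm ▸ dvd_pow_self 2 hm0)
  have h2 : x * x = 1 := by rw [← pow_two, ← hx, pow_orderOf_eq_one]
  intro hbot
  have hmem : ((x : P) : G) ∈ oZ P := by
    refine ⟨(x : P).2, ?_, fun p hp => ?_⟩
    · exact congrArg (fun t : Subgroup.center P => ((t : P) : G)) h2
    · exact congrArg Subtype.val (Subgroup.mem_center_iff.1 x.2 ⟨p, hp⟩)
  rw [hbot, Subgroup.mem_bot] at hmem
  have hx1 : x = 1 := Subtype.ext (Subtype.ext hmem)
  rw [hx1, orderOf_one] at hx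
  omega

theorem IsSwap.cj_oZP [Finite G] {p : G} (hp : p ∈ P) : cj p (oZ P) = oZ P :=
  cj_oZ (cj_eq_self_of_mem hp)

theorem IsSwap.cj_y_oZP [Finite G] : cj y (oZ P) = oZ P := cj_oZ hs.normP

theorem IsSwap.cj_oZQ [Finite G] {h : G} (hh : h ∈ H) : cj h (oZ Q) = oZ Q :=
  cj_oZ (hs.normQ h hh)

theorem IsSwap.oZP_le (hZ : oZ P ≤ Q) : oZ P ≤ oZ Q :=
  fun _ hx => ⟨hZ hx, hx.2.1, fun q hq => hx.2.2 q (hs.QP hq)⟩

theorem IsSwap.mem_oZP (hZ : oZ Q ≤ Q) {a v : G} (ha : a ∈ P) (haQ : a ∉ Q) (hv : v ∈ oZ Q)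
    (hav : a * v = v * a) : v ∈ oZ P := by
  refine ⟨hs.QP (hZ hv), hv.2.1, fun p hp => ?_⟩
  rcases hs.cases_P ha haQ hp with hq | ⟨q, hq, rfl⟩
  · exact hv.2.2 p hq
  · rw [mul_assoc, hv.2.2 q hq, ← mul_assoc, hav, mul_assoc]

theorem IsSwap.exists_notMem_Q : ∃ a ∈ P, a ∉ Q := by
  by_contra hcon
  push Not at hcon
  have hPQ : P = Q := le_antisymm hcon hs.QP
  have hN := hs.core P le_rfl (fun h hh => by rw [hPQ]; exact hs.normQ h hh) hs.normP
  exact hs.Q_ne (le_bot_iff.1 (hN ▸ hs.QP))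

theorem IsSwap.card_Q_pos [Finite G] : 0 < Nat.card Q := Nat.card_pos

/-- If some involution of `Z(P)` is outside `Q`, then `Q` has order two. -/
theorem IsSwap.caseA [Finite G] (hZ : ¬ oZ P ≤ Q) :
    ∃ t k, t ∈ P ∧ t ∉ Q ∧ t * t = 1 ∧ (∀ q ∈ Q, t * q = q * t) ∧ Gen k ∧ t * k * t⁻¹ = k⁻¹ ∧
      (∀ q ∈ Q, q * k = k * q) ∧ Nat.card Q = 2 := by
  obtain ⟨t, ⟨htP, ht2, htc⟩, htQ⟩ := SetLike.not_le_iff_exists.1 hZ
  obtain ⟨k₀, hk₀⟩ := hs.exists_gen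
  have hk₀H := hs.gen_mem k₀ hk₀
  obtain ⟨k, hk, hkw⟩ := hs.gen_pair k₀ hk₀ t htP htQ
  set w := t * (k₀ * t * k₀⁻¹) with hw
  have htinv : t * w * t⁻¹ = w⁻¹ := by
    rw [hw, inv_eq_self_of_sq ht2, mul_inv_rev, inv_eq_self_of_sq ht2,
      show (k₀ * t * k₀⁻¹)⁻¹ = k₀ * t⁻¹ * k₀⁻¹ by group, inv_eq_self_of_sq ht2, ← mul_assoc t t,
      ht2, one_mul]
  have hQw : ∀ q ∈ Q, q * w = w * q := by
    intro q hq
    have h1 : q * t = t * q := htc q (hs.QP hq)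
    have hq' : k₀⁻¹ * q * k₀ ∈ Q := by
      have := hs.conj_mem_Q (inv_mem hk₀H) hq
      simpa using this
    have h2 : k₀⁻¹ * q * k₀ * t = t * (k₀⁻¹ * q * k₀) := htc _ (hs.QP hq')
    calc q * w = (q * t) * (k₀ * t * k₀⁻¹) := by rw [hw]; group
      _ = t * k₀ * ((k₀⁻¹ * q * k₀) * t) * k₀⁻¹ := by rw [h1]; group
      _ = w * q := by rw [h2, hw]; group
  have hQk : ∀ q ∈ Q, q * k = k * q := fun q hq => commute_of_mem_zpowers (hQw q hq) hkw
  refine ⟨t, k, htP, htQ, ht2, fun q hq => (htc q (hs.QP hq)).symm, hk,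
    inverts_of_mem_zpowers htinv hkw, hQk, ?_⟩
  set R := Q ⊓ cj y Q with hR
  have hPQ : ∀ p ∈ P, cj p Q = Q := fun p hp => hs.cj_Q_of_P hp
  have hPR : ∀ p ∈ P, cj p R = R := fun p hp => by
    rw [hR, cj_inf, hPQ p hp, hs.cj_y_normal hPQ p hp]
  have hRy : cj y R = R := by
    rw [hR, cj_inf, hs.cj_ysq hs.QP hPQ, inf_comm]
  have hRk : cj k R = R := cj_eq_self_of_commute fun x hx => (hQk x (Subgroup.mem_inf.1 hx).1).symm
  have hR0 : R = ⊥ := hs.core' (inf_le_left.trans hs.QP) hPR hk hRk hRy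
  have hyQP : cj y Q ≤ P := (cj_mono y hs.QP).trans hs.normP.le
  have hmul := card_mul_le hs.QP hyQP (le_normalizer_of_cj fun x hx => hPQ x (hyQP hx))
  rw [card_cj, ← hR, hR0, Subgroup.card_bot, mul_one, hs.cardP] at hmul
  have h1 : 1 < Nat.card Q := by
    haveI := (Subgroup.nontrivial_iff_ne_bot Q).2 hs.Q_ne
    exact Finite.one_lt_card
  have h2 : Nat.card Q ≤ 2 := Nat.le_of_mul_le_mul_right hmul hs.card_Q_pos
  omega

/-- Some maximal elementary abelian subgroup of `P` is outside `Q`; so `|V : Z| ≤ 2`. -/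
theorem IsSwap.card_oZQ_le [Finite G] (hZ : oZ P ≤ Q) :
    Nat.card (oZ Q) ≤ 2 * Nat.card (oZ P) := by
  let EA : Subgroup G → Prop := fun A => A ≤ P ∧ ∀ x ∈ A, x * x = 1
  haveI : Nonempty {A : Subgroup G // EA A} :=
    ⟨⟨⊥, bot_le, fun x hx => by rw [Subgroup.mem_bot.1 hx, one_mul]⟩⟩
  obtain ⟨⟨A₀, hA₀⟩, hmax⟩ := Finite.exists_max
    (fun A : {A : Subgroup G // EA A} => Nat.card A.1)
  let Mx : Subgroup G → Prop := fun A => EA A ∧ Nat.card A = Nat.card A₀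
  have hup : ∀ A, EA A → Nat.card A ≤ Nat.card A₀ := fun A hA => hmax ⟨A, hA⟩
  -- the elementary abelian product
  have hprod : ∀ A B : Subgroup G, EA A → EA B → (∀ x ∈ A, ∀ z ∈ B, x * z = z * x) →
      EA (A ⊔ B) ∧ Nat.card ↥(A ⊔ B) * Nat.card ↥(A ⊓ B) = Nat.card A * Nat.card B := by
    intro A B hA hB hc
    have hn : A ≤ normalizer (B : Set G) :=
      le_normalizer_of_cj fun x hx => cj_eq_self_of_commute (hc x hx)
    have hn' : B ≤ normalizer (A : Set G) :=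
      le_normalizer_of_cj fun x hx => cj_eq_self_of_commute fun z hz => (hc z hz x hx).symm
    refine ⟨⟨sup_le hA.1 hB.1, fun x hx => ?_⟩, JComp.card_sup_mul_card_inf' hn'⟩
    obtain ⟨a, ha, b, hb, rfl⟩ := (Core.mem_sup_of_le_normalizer hn).1 hx
    calc a * b * (a * b) = a * (b * a) * b := by group
      _ = a * (a * b) * b := by rw [hc a ha b hb]
      _ = (a * a) * (b * b) := by group
      _ = 1 := by rw [hA.2 a ha, hB.2 b hb, one_mul]
  have hEZ : EA (oZ P) := ⟨oZ_le P, fun x hx => hx.2.1⟩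
  obtain ⟨A, hA, hAQ⟩ : ∃ A, Mx A ∧ ¬ A ≤ Q := by
    by_contra hcon
    push Not at hcon
    let W := sSup {A | Mx A}
    have hWQ : W ≤ Q := sSup_le fun A hA => hcon A hA
    have hWle : ∀ g : G, (∀ A, Mx A → cj g A ≤ P) → cj g W ≤ W := by
      intro g hg
      unfold cj
      rw [Subgroup.map_le_iff_le_comap]
      refine sSup_le fun A hA => ?_
      rw [← Subgroup.map_le_iff_le_comap]
      refine le_sSup ⟨⟨hg A hA, fun x hx => ?_⟩, (card_cj g A).trans hA.2⟩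
      obtain ⟨v, hv, rfl⟩ := mem_cj_iff_exists.1 hx
      calc g * v * g⁻¹ * (g * v * g⁻¹) = g * (v * v) * g⁻¹ := by group
        _ = 1 := by rw [hA.1.2 v hv]; group
    have hW0 := hs.core W (hWQ.trans hs.QP)
      (fun h hh => cj_eq_of_le (hWle h fun A hA =>
        ((cj_mono h (hcon A hA)).trans (hs.normQ h hh).le).trans hs.QP))
      (cj_eq_of_le (hWle y fun A hA => (cj_mono y hA.1.1).trans hs.normP.le))
    have hle : A₀ ≤ W := le_sSup ⟨hA₀, rfl⟩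
    rw [hW0, le_bot_iff] at hle
    have h1 := hup _ hEZ
    rw [hle, Subgroup.card_bot] at h1
    exact hs.oZP_ne_bot (Subgroup.eq_bot_of_card_le _ h1)
  obtain ⟨a, haA, haQ⟩ := SetLike.not_le_iff_exists.1 hAQ
  have hA2 : Nat.card A ≤ 2 * Nat.card ↥(Q ⊓ A : Subgroup G) := by
    have h := card_mul_le hs.QP hA.1.1
      (le_normalizer_of_cj fun x hx => hs.cj_Q_of_P (hA.1.1 hx))
    rw [hs.cardP] at h
    have : Nat.card Q * Nat.card A ≤ Nat.card Q * (2 * Nat.card ↥(Q ⊓ A : Subgroup G)) := by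
      calc Nat.card Q * Nat.card A ≤ 2 * Nat.card Q * Nat.card ↥(Q ⊓ A : Subgroup G) := h
        _ = _ := by ring
    exact Nat.le_of_mul_le_mul_left this hs.card_Q_pos
  obtain ⟨hE, hcard⟩ := hprod (Q ⊓ A) (oZ Q)
    ⟨inf_le_right.trans hA.1.1, fun x hx => hA.1.2 x (Subgroup.mem_inf.1 hx).2⟩
    ⟨(oZ_le Q).trans hs.QP, fun x hx => hx.2.1⟩
    (fun x hx z hz => hz.2.2 x (Subgroup.mem_inf.1 hx).1)
  have hsup : Nat.card ↥(Q ⊓ A ⊔ oZ Q) ≤ Nat.card A := (hup _ hE).trans hA.2.ge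
  have hinf : Nat.card ↥(Q ⊓ A ⊓ oZ Q : Subgroup G) ≤ Nat.card (oZ P) := by
    refine Subgroup.card_le_of_le fun v hv => ?_
    obtain ⟨⟨-, hvA⟩, hvV⟩ := (Subgroup.mem_inf.1 hv).imp Subgroup.mem_inf.1 id
    exact hs.mem_oZP (oZ_le Q) (hA.1.1 haA) haQ hvV (commute_of_sq hA.1.2 haA hvA)
  have : Nat.card ↥(Q ⊓ A : Subgroup G) * Nat.card (oZ Q) ≤
      Nat.card ↥(Q ⊓ A : Subgroup G) * (2 * Nat.card (oZ P)) := by
    calc _ = Nat.card ↥(Q ⊓ A ⊔ oZ Q) * Nat.card ↥(Q ⊓ A ⊓ oZ Q : Subgroup G) := hcard.symm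
      _ ≤ (2 * Nat.card ↥(Q ⊓ A : Subgroup G)) * Nat.card (oZ P) :=
        Nat.mul_le_mul (hsup.trans hA2) hinf
      _ = _ := by ring
  exact Nat.le_of_mul_le_mul_left this Nat.card_pos

end Cfsg.Lib.Local.DihedralSwap
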