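import Cfsg.Agent.Lib.Local.DihedralSwap.VData

/-!
# The case `yVy⁻¹ ⊄ Q`
-/

namespace Cfsg.Lib.Local.DihedralSwap

open Subgroup

variable {G : Type*} [Group G]
variable {H P Q : Subgroup G} {y : G} {Gen : G → Prop} (hs : IsSwap H P Q y Gen)
include hs

theorem IsSwap.caseB [Finite G] (hZ : oZ P ≤ Q) {a : G} (ha : a ∈ cj y (oZ Q)) (haQ : a ∉ Q) :
    a ∈ P ∧ a * a = 1 ∧ (∀ q ∈ Q, q ∈ oZ Q) ∧ ∃ k, Gen k ∧ a * k * a⁻¹ = k⁻¹ := by
  obtain ⟨u, hu, rfl⟩ := mem_cj_iff_exists.1 ha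
  set a := y * u * y⁻¹ with hadef
  have haP : a ∈ P := hs.y_mem_P (hs.QP (oZ_le Q hu))
  have ha2 : a * a = 1 := by
    calc a * a = y * (u * u) * y⁻¹ := by rw [hadef]; group
      _ = 1 := by rw [hu.2.1]; group
  obtain ⟨k₀, hk₀⟩ := hs.exists_gen
  have hk₀H := hs.gen_mem k₀ hk₀
  obtain ⟨k, hk, hkw⟩ := hs.gen_pair k₀ hk₀ a haP haQ
  set w := a * (k₀ * a * k₀⁻¹) with hw
  have hainv : a * w * a⁻¹ = w⁻¹ := by
    rw [hw, inv_eq_self_of_sq ha2, mul_inv_rev, inv_eq_self_of_sq ha2,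
      show (k₀ * a * k₀⁻¹)⁻¹ = k₀ * a⁻¹ * k₀⁻¹ by group, inv_eq_self_of_sq ha2, ← mul_assoc a a,
      ha2, one_mul]
  refine ⟨haP, ha2, ?_, k, hk, inverts_of_mem_zpowers hainv hkw⟩
  have hPQ : ∀ p ∈ P, cj p Q = Q := fun p hp => hs.cj_Q_of_P hp
  set R := Q ⊓ cj y Q with hR
  have hPR : ∀ p ∈ P, cj p R = R := fun p hp => by
    rw [hR, cj_inf, hPQ p hp, hs.cj_y_normal hPQ p hp]
  have hRy : cj y R = R := by
    rw [hR, cj_inf, hs.cj_ysq hs.QP hPQ, inf_comm]
  have haR : ∀ x ∈ R, a * x = x * a := by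
    intro x hx
    obtain ⟨q, hq, rfl⟩ := mem_cj_iff_exists.1 (Subgroup.mem_inf.1 hx).2
    calc a * (y * q * y⁻¹) = y * (u * q) * y⁻¹ := by rw [hadef]; group
      _ = y * (q * u) * y⁻¹ := by rw [hu.2.2 q hq]
      _ = y * q * y⁻¹ * a := by rw [hadef]; group
  have hRQ : R ≤ Q := inf_le_left
  have hkR : cj k₀ R ≤ Q := (cj_mono k₀ hRQ).trans (hs.normQ k₀ hk₀H).le
  set U := R ⊓ cj k₀ R with hU
  have hUR : U ≤ R := inf_le_left
  have hUP : U ≤ P := hUR.trans (hRQ.trans hs.QP)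
  have haU : ∀ x ∈ U, a * x = x * a := fun x hx => haR x (hUR hx)
  have hwU : ∀ x ∈ U, x * w = w * x := by
    intro x hx
    obtain ⟨r, hr, hre⟩ := mem_cj_iff_exists.1 (Subgroup.mem_inf.1 hx).2
    have h2 : (k₀ * a * k₀⁻¹) * x = x * (k₀ * a * k₀⁻¹) := by
      rw [← hre]
      calc k₀ * a * k₀⁻¹ * (k₀ * r * k₀⁻¹) = k₀ * (a * r) * k₀⁻¹ := by group
        _ = k₀ * (r * a) * k₀⁻¹ := by rw [haR r hr]
        _ = k₀ * r * k₀⁻¹ * (k₀ * a * k₀⁻¹) := by group
    exact ((Commute.mul_left (haU x hx) h2).eq).symm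
  have hkU : ∀ x ∈ U, x * k = k * x := fun x hx => commute_of_mem_zpowers (hwU x hx) hkw
  have hQU : ∀ q ∈ Q, cj q U = U := by
    intro q hq
    have hq' : k₀⁻¹ * q * k₀ ∈ Q := by
      have := hs.conj_mem_Q (inv_mem hk₀H) hq
      simpa using this
    rw [hU, cj_inf, hPR q (hs.QP hq), cj_cj, show q * k₀ = k₀ * (k₀⁻¹ * q * k₀) by group,
      ← cj_cj, hPR _ (hs.QP hq')]
  have hPU : ∀ p ∈ P, cj p U = U := by
    intro p hp
    rcases hs.cases_P haP haQ hp with hq | ⟨q, hq, rfl⟩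
    · exact hQU p hq
    · exact cj_mul_self (cj_eq_self_of_commute haU) (hQU q hq)
  have hUI : U ⊓ cj y U = ⊥ := by
    refine hs.core' (inf_le_left.trans hUP)
      (fun p hp => by rw [cj_inf, hPU p hp, hs.cj_y_normal hPU p hp]) hk ?_ ?_
    · exact cj_eq_self_of_commute fun x hx => (hkU x (Subgroup.mem_inf.1 hx).1).symm
    · rw [cj_inf, hs.cj_ysq hUP hPU, inf_comm]
  -- the inequalities
  have hyQP : cj y Q ≤ P := (cj_mono y hs.QP).trans hs.normP.le
  have hQ0 := hs.card_Q_pos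
  have h1 : Nat.card Q ≤ 2 * Nat.card R := by
    have h := card_mul_le hs.QP hyQP (le_normalizer_of_cj fun x hx => hPQ x (hyQP hx))
    rw [card_cj, hs.cardP, mul_comm 2, mul_assoc] at h
    exact Nat.le_of_mul_le_mul_left h hQ0
  have h2 : 2 * Nat.card R ≤ Nat.card Q := by
    obtain ⟨c, hc⟩ := Subgroup.card_dvd_of_le hRQ
    have hne : Nat.card R ≠ Nat.card Q := by
      intro he
      have hRe : R = Q := Subgroup.eq_of_le_of_card_ge hRQ he.ge
      exact hs.Q_ne (hs.core Q hs.QP hs.normQ (hRe ▸ hRy))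
    rcases c with - | - | c
    · omega
    · omega
    · rw [hc, mul_comm 2]; exact Nat.mul_le_mul_left _ (by omega)
  have hR2 : Nat.card Q = 2 * Nat.card R := le_antisymm h1 h2
  have h4 : Nat.card Q ≤ 4 * Nat.card U := by
    have h := card_mul_le hRQ hkR (le_normalizer_of_cj fun x hx => hPR x (hs.QP (hkR hx)))
    rw [card_cj] at h
    have : Nat.card Q * Nat.card Q ≤ Nat.card Q * (4 * Nat.card U) := by
      calc Nat.card Q * Nat.card Q = 4 * (Nat.card R * Nat.card R) := by rw [hR2]; ring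
        _ ≤ 4 * (Nat.card Q * Nat.card U) := Nat.mul_le_mul_left 4 h
        _ = _ := by ring
    exact Nat.le_of_mul_le_mul_left this hQ0
  have hU2 : Nat.card U ≤ 2 := by
    have hyUR : cj y U ≤ R := (cj_mono y hUR).trans hRy.le
    have h := card_mul_le hUR hyUR
      (le_normalizer_of_cj fun x hx => hPU x (hs.QP (hRQ (hyUR hx))))
    rw [card_cj, hUI, Subgroup.card_bot, mul_one] at h
    exact Nat.le_of_mul_le_mul_right (show Nat.card U * Nat.card U ≤ 2 * Nat.card U by omega)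
      Nat.card_pos
  have hUsq : ∀ x ∈ U, x * x = 1 := by
    intro x hx
    have h : x ^ Nat.card U = 1 := congrArg Subtype.val (pow_card_eq_one' (x := (⟨x, hx⟩ : U)))
    have h0 : 0 < Nat.card U := Nat.card_pos
    rcases (by omega : Nat.card U = 1 ∨ Nat.card U = 2) with hc | hc <;> rw [hc] at h
    · rw [pow_one] at h; rw [h, one_mul]
    · rwa [pow_two] at h
  -- `Q = U × E`
  set E := hs.EV hk with hE
  have hEV : E ≤ oZ Q := hs.EV_le hk
  have hcomm : ∀ x ∈ U, ∀ e ∈ E, x * e = e * x := fun x hx e he =>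
    (hEV he).2.2 x (hRQ (hUR hx))
  have hn : U ≤ normalizer (E : Set G) :=
    le_normalizer_of_cj fun x hx => cj_eq_self_of_commute (hcomm x hx)
  have hn' : E ≤ normalizer (U : Set G) :=
    le_normalizer_of_cj fun e he => cj_eq_self_of_commute fun x hx => (hcomm x hx e he).symm
  have hI : U ⊓ E = ⊥ := (Subgroup.eq_bot_iff_forall _).2 fun e he =>
    hs.EV_fix hk hk (Subgroup.mem_inf.1 he).2 (hkU e (Subgroup.mem_inf.1 he).1).symm
  have hc := JComp.card_sup_mul_card_inf' hn'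
  rw [hI, Subgroup.card_bot, mul_one, (hs.cards hZ hk).2.1] at hc
  have hQUE : U ⊔ E = Q :=
    Subgroup.eq_of_le_of_card_ge (sup_le (hUR.trans hRQ) (hEV.trans (oZ_le Q))) (by omega)
  have hsq : ∀ q ∈ Q, q * q = 1 := by
    intro q hq
    rw [← hQUE] at hq
    obtain ⟨x, hx, e, he, rfl⟩ := (Core.mem_sup_of_le_normalizer hn).1 hq
    calc x * e * (x * e) = x * (e * x) * e := by group
      _ = x * (x * e) * e := by rw [hcomm x hx e he]
      _ = (x * x) * (e * e) := by group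
      _ = 1 := by rw [hUsq x hx, (hEV he).2.1, one_mul]
  exact fun q hq => ⟨hq, hsq q hq, fun p hp => commute_of_sq hsq hp hq⟩

/-- The structure of `H` when `Q` is elementary abelian and `P` splits over it. -/
theorem IsSwap.split_structure [Finite G] (hZ : oZ P ≤ Q) (hV : ∀ q ∈ Q, q ∈ oZ Q) {a k : G}
    (haP : a ∈ P) (haQ : a ∉ Q) (ha2 : a * a = 1) (hk : Gen k) (hinv : a * k * a⁻¹ = k⁻¹) :
    ∃ L : Subgroup G, L ≤ H ∧ (∀ h ∈ H, cj h L = L) ∧ Odd (Nat.card L) ∧
      (∀ h ∈ H, Odd (orderOf h) → (∀ q ∈ Q, h * q = q * h) → h ∈ L) ∧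
      ∃ c : ℕ, (c = 1 ∨ c = 2) ∧ Nat.card P = 8 * c ∧
      ∃ (M N : Subgroup H), M.index = 4 ∧ N.Normal ∧ N.index = c ∧
        M.normalCore ⊓ N = L.subgroupOf H ∧ Nat.card H = 24 * c * Nat.card L := by
  have hQV : oZ Q = Q := le_antisymm (oZ_le Q) hV
  have haH := hs.PH haP
  have hkH := hs.gen_mem k hk
  set X := fixV (oZ Q) k with hX
  set E := hs.EV hk with hE
  obtain ⟨-, hE4, -, hQ4'⟩ := hs.cards hZ hk
  have hQ4 : Nat.card Q = 4 * Nat.card X :=
    (congrArg (fun S : Subgroup G => Nat.card S) hQV).symm.trans hQ4'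
  have hXc : Nat.card X = 1 ∨ Nat.card X = 2 := by
    have := hs.card_X_le hZ hk
    have h0 : 0 < Nat.card X := Nat.card_pos
    rw [← hX] at this
    omega
  have hXQ : X ≤ Q := fun x hx => (mem_fixV.1 hx).1.1
  have hEQ : E ≤ Q := (hs.EV_le hk).trans (oZ_le Q)
  -- `D = ⟨a, k⟩`
  set D := zpowers a ⊔ zpowers k with hD
  have hnK : zpowers a ≤ normalizer (zpowers k : Set G) := by
    rw [Subgroup.zpowers_le]
    refine le_normalizer_of_cj (A := zpowers a) (fun x hx => ?_) (mem_zpowers a)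
    obtain ⟨m, rfl⟩ := mem_powers_iff_mem_zpowers.2 hx
    refine cj_pow_self (cj_eq_of_le fun v hv => ?_) m
    obtain ⟨u, hu, rfl⟩ := mem_cj_iff_exists.1 hv
    rw [inverts_of_mem_zpowers hinv hu]
    exact inv_mem hu
  have hDmem : ∀ d ∈ D, ∃ i : ℕ, d = k ^ i ∨ d = a * k ^ i := by
    intro d hd
    obtain ⟨u, hu, v, hv, rfl⟩ := (Core.mem_sup_of_le_normalizer hnK).1 hd
    obtain ⟨s, rfl⟩ := mem_powers_iff_mem_zpowers.2 hu
    obtain ⟨i, rfl⟩ := mem_powers_iff_mem_zpowers.2 hv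
    refine ⟨i, ?_⟩
    beta_reduce
    rcases Nat.even_or_odd' s with ⟨t, rfl | rfl⟩
    · left; rw [pow_mul, pow_two, ha2, one_pow, one_mul]
    · right; rw [pow_succ, pow_mul, pow_two, ha2, one_pow, one_mul]
  have haD : a ∈ D := Subgroup.mem_sup_left (mem_zpowers a)
  have hkD : k ∈ D := Subgroup.mem_sup_right (mem_zpowers k)
  have hDH : D ≤ H := sup_le (Subgroup.zpowers_le.2 haH) (Subgroup.zpowers_le.2 hkH)
  have hDQ : ∀ d ∈ D, d ∈ Q → d = 1 := by
    intro d hd hdQ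
    obtain ⟨i, rfl | rfl⟩ := hDmem d hd
    · exact hs.pow_gen_eq_one hk (hs.QP hdQ)
    · exfalso
      have hiP : k ^ i ∈ P := by
        have := mul_mem (inv_mem haP) (hs.QP hdQ)
        rwa [inv_mul_cancel_left] at this
      rw [hs.pow_gen_eq_one hk hiP, mul_one] at hdQ
      exact haQ hdQ
  have haK : ∀ v ∈ zpowers k, v ≠ a := by
    intro v hv he
    obtain ⟨i, rfl⟩ := mem_powers_iff_mem_zpowers.2 hv
    beta_reduce at he
    have := hs.pow_gen_eq_one hk (he ▸ haP)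
    rw [this] at he
    exact haQ (he ▸ one_mem Q)
  have hD2 : Nat.card D = 2 * Nat.card (zpowers k) := by
    have hc := JComp.card_sup_mul_card_inf' hnK
    have hI : zpowers k ⊓ zpowers a = ⊥ := by
      refine (Subgroup.eq_bot_iff_forall _).2 fun v hv => ?_
      obtain ⟨hv1, hv2⟩ := Subgroup.mem_inf.1 hv
      obtain ⟨s, rfl⟩ := mem_powers_iff_mem_zpowers.2 hv2
      beta_reduce at hv1 ⊢
      rcases Nat.even_or_odd' s with ⟨t, rfl | rfl⟩
      · rw [pow_mul, pow_two, ha2, one_pow]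
      · exact absurd (by rw [pow_succ, pow_mul, pow_two, ha2, one_pow, one_mul]) (haK _ hv1)
    have ho : orderOf a = 2 :=
      orderOf_eq_prime (by rw [pow_two, ha2]) fun h => haQ (h ▸ one_mem Q)
    rw [hI, Subgroup.card_bot, mul_one, Nat.card_zpowers a, ho, mul_comm] at hc
    rw [hD, sup_comm]; exact hc
  have hDQn : D ≤ normalizer (Q : Set G) := le_normalizer_of_cj fun d hd => hs.normQ d (hDH hd)
  have hQD : Q ⊔ D = H := by
    refine le_antisymm (sup_le hs.QH hDH) fun h hh => ?_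
    obtain ⟨p, hp, i, rfl⟩ := hs.gen_decomp k hk h hh
    refine mul_mem ?_ (Subgroup.mem_sup_right (pow_mem hkD i))
    rcases hs.cases_P haP haQ hp with hq | ⟨q, hq, rfl⟩
    · exact Subgroup.mem_sup_left hq
    · exact mul_mem (Subgroup.mem_sup_right haD) (Subgroup.mem_sup_left hq)
  have hcardH : Nat.card H = 8 * Nat.card X * Nat.card (zpowers k) := by
    have hc := JComp.card_sup_mul_card_inf' hDQn
    rw [(Subgroup.eq_bot_iff_forall (Q ⊓ D)).2 fun d hd =>
      hDQ d (Subgroup.mem_inf.1 hd).2 (Subgroup.mem_inf.1 hd).1, Subgroup.card_bot, mul_one, hQD,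
      hD2, hQ4] at hc
    rw [hc]; ring
  -- `L = ⟨k³⟩`
  set L := zpowers (k ^ 3) with hLdef
  have h3 : 3 ∣ orderOf k := hs.three_dvd hZ hk fun v _ => by simp [pow_orderOf_eq_one]
  have hK3 : Nat.card (zpowers k) = 3 * Nat.card L := by
    rw [hLdef, Nat.card_zpowers, Nat.card_zpowers, orderOf_pow' k (by norm_num : (3 : ℕ) ≠ 0),
      Nat.gcd_eq_right h3, Nat.mul_div_cancel' h3]
  have hLK : L ≤ zpowers k := Subgroup.zpowers_le.2 (pow_mem (mem_zpowers k) 3)
  have hLD : L ≤ D := hLK.trans le_sup_right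
  have hLQ : ∀ l ∈ L, ∀ q ∈ Q, l * q = q * l := fun l hl q hq =>
    (commute_of_mem_zpowers (hs.cube hZ hk (hV q hq)).symm hl).symm
  have hLn : ∀ h ∈ H, cj h L = L := by
    refine hs.cj_P_of_H (fun p hp => ?_) hk (cj_eq_self_of_commute fun l hl =>
      commute_of_mem_zpowers ((Commute.refl k).pow_right 3).eq hl)
    have haL : cj a L = L := cj_eq_of_le fun v hv => by
      obtain ⟨u, hu, rfl⟩ := mem_cj_iff_exists.1 hv
      rw [inverts_of_mem_zpowers hinv (hLK hu)]
      exact inv_mem hu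
    have hqL : ∀ q ∈ Q, cj q L = L := fun q hq =>
      cj_eq_self_of_commute fun l hl => (hLQ l hl q hq).symm
    rcases hs.cases_P haP haQ hp with hq | ⟨q, hq, rfl⟩
    · exact hqL p hq
    · exact cj_mul_self haL (hqL q hq)
  refine ⟨L, hLD.trans hDH, hLn, ?_, ?_, Nat.card X, hXc, ?_, ?_⟩
  · rw [hLdef, Nat.card_zpowers]
    exact (hs.gen_odd k hk).of_dvd_nat (orderOf_pow_dvd 3)
  · intro h hh hodd hcen
    obtain ⟨q, hq, i, rfl⟩ := hs.odd_rot k hk h hh hodd
    have hi : 3 ∣ i := hs.three_dvd hZ hk fun v hv => by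
      have h1 := hcen v (oZ_le Q hv)
      have h2 : q * v = v * q := hv.2.2 q hq
      exact mul_left_cancel (a := q) (by rw [← mul_assoc, h1, ← mul_assoc v q, ← h2, mul_assoc])
    have hiL : k ^ i ∈ L := by
      obtain ⟨t, rfl⟩ := hi
      rw [pow_mul]; exact pow_mem (mem_zpowers _) t
    have hc : Commute q (k ^ i) := (hLQ _ hiL q hq).symm
    obtain ⟨m, hm⟩ := hodd
    have hp : (q * k ^ i) ^ orderOf (q * k ^ i) = 1 := pow_orderOf_eq_one _
    rw [hc.mul_pow, hm] at hp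
    have hq1 : q ^ (2 * m + 1) = q := by
      rw [pow_succ, pow_mul, pow_two, (hV q hq).2.1, one_pow, one_mul]
    rw [hq1] at hp
    have hqL : q ∈ L := by
      have := inv_mem (pow_mem hiL (2 * m + 1))
      rwa [← eq_inv_of_mul_eq_one_left hp] at this
    exact mul_mem hqL hiL
  · rw [hs.cardP, hQ4]; ring
  -- the two subgroups
  have hXc' : ∀ x ∈ X, ∀ h ∈ H, h * x = x * h := fun x hx h hh => hs.X_central hZ hk hx hh
  have hEn : ∀ h ∈ H, cj h E = E := fun h hh => hs.EV_normal hk hh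
  have hnX : X ≤ normalizer (D : Set G) := le_normalizer_of_cj fun x hx =>
    cj_eq_self_of_commute fun d hd => (hXc' x hx d (hDH hd)).symm
  have hnX' : D ≤ normalizer (X : Set G) := le_normalizer_of_cj fun d hd =>
    cj_eq_self_of_commute fun x hx => hXc' x hx d (hDH hd)
  have hnE : D ≤ normalizer (E : Set G) := le_normalizer_of_cj fun d hd => hEn d (hDH hd)
  have hcardsup : ∀ A : Subgroup G, A ≤ Q → D ≤ normalizer (A : Set G) →
      Nat.card ↥(A ⊔ D) = Nat.card A * (2 * Nat.card (zpowers k)) := fun A hA hn => by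
    have hc := JComp.card_sup_mul_card_inf' hn
    rwa [(Subgroup.eq_bot_iff_forall (A ⊓ D)).2 fun d hd =>
      hDQ d (Subgroup.mem_inf.1 hd).2 (hA (Subgroup.mem_inf.1 hd).1), Subgroup.card_bot, mul_one,
      hD2] at hc
  set M := X ⊔ D with hM
  set N := E ⊔ D with hN
  have hMH : M ≤ H := sup_le (hXQ.trans hs.QH) hDH
  have hNH : N ≤ H := sup_le (hEQ.trans hs.QH) hDH
  have hMmem : ∀ m ∈ M, ∃ x ∈ X, ∃ d ∈ D, x * d = m :=
    fun m hm => (Core.mem_sup_of_le_normalizer hnX).1 hm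
  have hNmem : ∀ m ∈ N, ∃ d ∈ D, ∃ e ∈ E, d * e = m :=
    fun m hm => (Core.mem_sup_of_le_normalizer hnE).1 (sup_comm E D ▸ hm)
  refine ⟨M.subgroupOf H, N.subgroupOf H, ?_, ?_, ?_, ?_, ?_⟩
  · have h := (M.subgroupOf H).card_mul_index
    rw [Nat.card_congr (Subgroup.subgroupOfEquivOfLe hMH).toEquiv, hM, hcardsup X hXQ hnX',
      hcardH, show 8 * Nat.card X * Nat.card (zpowers k) =
        Nat.card X * (2 * Nat.card (zpowers k)) * 4 by ring] at h
    exact Nat.eq_of_mul_eq_mul_left (Nat.mul_pos Nat.card_pos (Nat.mul_pos two_pos Nat.card_pos)) h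
  · refine ⟨fun m hm g => ?_⟩
    rw [Subgroup.mem_subgroupOf] at hm ⊢
    have hgN : cj (g : G) N = N := by
      obtain ⟨q, hq, d, hd, hqd⟩ : ∃ q ∈ Q, ∃ d ∈ D, d * q = (g : G) := by
        have hg : (g : G) ∈ D ⊔ Q := by rw [sup_comm, hQD]; exact g.2
        obtain ⟨d, hd, q, hq, he⟩ := (Core.mem_sup_of_le_normalizer hDQn).1 hg
        exact ⟨q, hq, d, hd, he⟩
      have hdN : cj d N = N := cj_eq_self_of_mem (Subgroup.mem_sup_right hd)
      obtain ⟨x, hx, e, he, rfl⟩ := hs.V_split hk (hV q hq)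
      have hxN : cj x N = N :=
        cj_eq_self_of_commute fun v hv => (hXc' x hx v (hNH hv)).symm
      have heN : cj e N = N := cj_eq_self_of_mem (Subgroup.mem_sup_left he)
      rw [← hqd]
      exact cj_mul_self hdN (cj_mul_self hxN heN)
    simpa using conj_mem_of_cj_eq hgN hm
  · have h := (N.subgroupOf H).card_mul_index
    rw [Nat.card_congr (Subgroup.subgroupOfEquivOfLe hNH).toEquiv, hN, hcardsup E hEQ hnE,
      hE4, hcardH, show 8 * Nat.card X * Nat.card (zpowers k) =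
        4 * (2 * Nat.card (zpowers k)) * Nat.card X by ring] at h
    exact Nat.eq_of_mul_eq_mul_left (Nat.mul_pos four_pos (Nat.mul_pos two_pos Nat.card_pos)) h
  · apply le_antisymm
    · rintro h hh
      obtain ⟨hcore, hhN⟩ := Subgroup.mem_inf.1 hh
      have hhM : (h : G) ∈ M := by
        have := Subgroup.normalCore_le _ hcore
        rwa [Subgroup.mem_subgroupOf] at this
      rw [Subgroup.mem_subgroupOf] at hhN ⊢
      obtain ⟨x, hx, d, hd, hxd⟩ := hMmem _ hhM
      obtain ⟨d', hd', e, he, hde⟩ := hNmem _ hhN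
      have hX1 : x = 1 := by
        have hxe : d'⁻¹ * d = e * x⁻¹ := by
          have h1 : d * x = d' * e := by rw [hXc' x hx d (hDH hd), hxd, hde]
          calc d'⁻¹ * d = d'⁻¹ * (d * x) * x⁻¹ := by group
            _ = e * x⁻¹ := by rw [h1]; group
        have h1 := hDQ _ (mul_mem (inv_mem hd') hd)
          (hxe ▸ mul_mem (hEQ he) (inv_mem (hXQ hx)))
        rw [hxe, mul_inv_eq_one] at h1
        have : x ∈ fixV (oZ Q) k ⊓ hs.EV hk := Subgroup.mem_inf.2 ⟨hx, h1 ▸ he⟩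
        rwa [hs.X_inf_E hk, Subgroup.mem_bot] at this
      rw [hX1, one_mul] at hxd
      -- `h` centralizes `E`
      have hcE : ∀ e ∈ E, d * e = e * d := by
        intro e he
        have heH : e ∈ H := hs.QH (hEQ he)
        have hm : e * d * e⁻¹ ∈ M := by
          have := hcore (⟨e, heH⟩ : H)
          rw [Subgroup.mem_subgroupOf] at this
          simpa [hxd] using this
        have hm' : e * (d * e⁻¹ * d⁻¹) ∈ M := by
          have := mul_mem hm (inv_mem (Subgroup.mem_sup_right (S := X) hd))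
          simpa [mul_assoc] using this
        have heE : e * (d * e⁻¹ * d⁻¹) ∈ E :=
          mul_mem he (conj_mem_of_cj_eq (hEn d (hDH hd)) (inv_mem he))
        obtain ⟨x', hx', d'', hd'', hxd''⟩ := hMmem _ hm'
        have hd1 : d'' = 1 := hDQ d'' hd'' (by
          have : d'' = x'⁻¹ * (e * (d * e⁻¹ * d⁻¹)) := by rw [← hxd'']; group
          rw [this]; exact mul_mem (inv_mem (hXQ hx')) (hEQ heE))
        rw [hd1, mul_one] at hxd''
        have h1 : x' ∈ fixV (oZ Q) k ⊓ hs.EV hk := Subgroup.mem_inf.2 ⟨hx', hxd'' ▸ heE⟩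
        rw [hs.X_inf_E hk, Subgroup.mem_bot, hxd''] at h1
        calc d * e = (e * (d * e⁻¹ * d⁻¹))⁻¹ * (e * d) := by group
          _ = e * d := by rw [h1]; group
      have hcQ : ∀ q ∈ oZ Q, d * q = q * d := by
        intro q hq
        obtain ⟨x', hx', e', he', rfl⟩ := hs.V_split hk hq
        exact (Commute.mul_right (hXc' x' hx' d (hDH hd)) (hcE e' he')).eq
      rw [← hxd]
      obtain ⟨i, rfl | rfl⟩ := hDmem d hd
      · obtain ⟨t, rfl⟩ := hs.three_dvd hZ hk hcQ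
        rw [pow_mul]; exact pow_mem (mem_zpowers _) t
      · exfalso
        have hai : a * k ^ i * a⁻¹ = (k ^ i)⁻¹ :=
          inverts_of_mem_zpowers hinv (pow_mem (mem_zpowers k) i)
        have hai' : k ^ i = a * (k ^ i)⁻¹ * a⁻¹ := by
          calc k ^ i = (a * a) * k ^ i * (a * a)⁻¹ := by rw [ha2]; group
            _ = a * (a * k ^ i * a⁻¹) * a⁻¹ := by group
            _ = a * (k ^ i)⁻¹ * a⁻¹ := by rw [hai]
        -- the square of `k ^ i` fixes everything
        have hdd : ∀ v ∈ oZ Q, k ^ (2 * i) * v = v * k ^ (2 * i) := by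
          intro v hv
          set u := a * v * a⁻¹ with hu
          have huV : u ∈ oZ Q := hs.conjV haH hv
          have h1 : k ^ i * v * (k ^ i)⁻¹ = a⁻¹ * v * a := by
            have := hcQ v hv
            calc k ^ i * v * (k ^ i)⁻¹ = a⁻¹ * ((a * k ^ i) * v) * (k ^ i)⁻¹ := by group
              _ = a⁻¹ * v * a := by rw [this]; group
          have h2 : k ^ i * u * (k ^ i)⁻¹ = a⁻¹ * u * a := by
            have := hcQ u huV
            calc k ^ i * u * (k ^ i)⁻¹ = a⁻¹ * ((a * k ^ i) * u) * (k ^ i)⁻¹ := by group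
              _ = a⁻¹ * u * a := by rw [this]; group
          have h3 : a⁻¹ * v * a = u := by rw [hu, inv_eq_self_of_sq ha2]
          have h4 : k ^ (2 * i) * v * (k ^ (2 * i))⁻¹ = v := by
            calc k ^ (2 * i) * v * (k ^ (2 * i))⁻¹
                = k ^ i * (k ^ i * v * (k ^ i)⁻¹) * (k ^ i)⁻¹ := by rw [two_mul, pow_add]; group
              _ = a⁻¹ * u * a := by rw [h1, h3, h2]
              _ = v := by rw [hu]; group
          exact mul_inv_eq_iff_eq_mul.1 h4
        obtain ⟨t, rfl⟩ : 3 ∣ i := by have := hs.three_dvd hZ hk hdd; omega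
        refine haQ (hs.centV hZ haP fun v hv => ?_)
        have h1 : Commute (k ^ (3 * t)) v := by
          rw [pow_mul]; exact Commute.pow_left (hs.cube hZ hk hv) t
        calc a * v = (a * k ^ (3 * t)) * v * (k ^ (3 * t))⁻¹ := by
              rw [mul_assoc a, h1.eq]; group
          _ = v * a := by rw [hcQ v hv]; group
    · refine le_inf (fun h hh => ?_) (Subgroup.comap_mono (hLD.trans le_sup_right))
      intro g
      rw [Subgroup.mem_subgroupOf] at hh ⊢
      exact Subgroup.mem_sup_right (hLD (conj_mem_of_cj_eq (hLn g g.2) hh))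
  · rw [hcardH, hK3]; ring

end Cfsg.Lib.Local.DihedralSwap
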