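import Cfsg.Agent.Lib.Local.DihedralSwap.VData

/-!
# The case `yVy⁻¹ ≤ Q` is impossible
-/

namespace Cfsg.Lib.Local.DihedralSwap

open Subgroup

variable {G : Type*} [Group G]

/-- Elements written with `i` letters `y`, `y⁻¹` separated by elements of `H`. -/
def words (H : Subgroup G) (y : G) : ℕ → Set G
  | 0 => H
  | i + 1 => {g | ∃ h ∈ H, ∃ e, (e = y ∨ e = y⁻¹) ∧ ∃ s ∈ words H y i, g = h * e * s}

variable {H : Subgroup G} {y : G}

theorem words_one : (1 : G) ∈ words H y 0 := H.one_mem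

theorem words_mk {i : ℕ} {h e s : G} (hh : h ∈ H) (he : e = y ∨ e = y⁻¹)
    (hs : s ∈ words H y i) : h * e * s ∈ words H y (i + 1) :=
  ⟨h, hh, e, he, s, hs, rfl⟩

theorem words_mul_left {h : G} (hh : h ∈ H) :
    ∀ (i : ℕ) {s : G}, s ∈ words H y i → h * s ∈ words H y i
  | 0, _, hs => H.mul_mem hh hs
  | _ + 1, _, ⟨h₀, hh₀, e, he, s₀, hs₀, hse⟩ =>
    ⟨h * h₀, mul_mem hh hh₀, e, he, s₀, hs₀, by rw [hse]; group⟩

theorem words_mul_right {h : G} (hh : h ∈ H) :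
    ∀ (i : ℕ) {s : G}, s ∈ words H y i → s * h ∈ words H y i
  | 0, _, hs => H.mul_mem hs hh
  | i + 1, _, ⟨h₀, hh₀, e, he, s₀, hs₀, hse⟩ =>
    ⟨h₀, hh₀, e, he, s₀ * h, words_mul_right hh i hs₀, by rw [hse]; group⟩

theorem words_append {h e : G} (he : e = y ∨ e = y⁻¹) (hh : h ∈ H) :
    ∀ (i : ℕ) {s : G}, s ∈ words H y i → s * e * h ∈ words H y (i + 1)
  | 0, s, hs => ⟨s, hs, e, he, h, hh, rfl⟩
  | i + 1, _, ⟨h₀, hh₀, e₀, he₀, s₀, hs₀, hse⟩ =>
    ⟨h₀, hh₀, e₀, he₀, s₀ * e * h, words_append he hh i hs₀, by rw [hse]; group⟩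

theorem words_split :
    ∀ (i : ℕ) {g : G}, g ∈ words H y (i + 1) →
      ∃ s ∈ words H y i, ∃ e, (e = y ∨ e = y⁻¹) ∧ ∃ h ∈ H, g = s * e * h
  | 0, _, ⟨h₀, hh₀, e, he, s₀, hs₀, hge⟩ => ⟨h₀, hh₀, e, he, s₀, hs₀, hge⟩
  | i + 1, _, ⟨h₀, hh₀, e, he, s₀, hs₀, hge⟩ => by
    obtain ⟨s', hs', e', he', h', hh', rfl⟩ := words_split i hs₀
    exact ⟨h₀ * e * s', words_mk hh₀ he hs', e', he', h', hh', by rw [hge]; group⟩

theorem sign_inv {e : G} (he : e = y ∨ e = y⁻¹) : e⁻¹ = y ∨ e⁻¹ = y⁻¹ := by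
  rcases he with rfl | rfl
  · exact Or.inr rfl
  · exact Or.inl (inv_inv y)

theorem words_inv : ∀ (i : ℕ) {g : G}, g ∈ words H y i → g⁻¹ ∈ words H y i
  | 0, _, hg => H.inv_mem hg
  | i + 1, _, ⟨h₀, hh₀, e, he, s₀, hs₀, hge⟩ => by
    have := words_append (sign_inv he) (inv_mem hh₀) i (words_inv i hs₀)
    rw [hge]; convert this using 1; group

theorem eq_one_or_of_mem_zpowers {x m : G} (hx : x * x = 1) (hm : m ∈ Subgroup.zpowers x) :
    m = 1 ∨ m = x := by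
  obtain ⟨s, rfl⟩ := Subgroup.mem_zpowers_iff.1 hm
  obtain ⟨t, rfl | rfl⟩ := Int.even_or_odd' s
  · left; rw [zpow_mul, zpow_two, hx, one_zpow]
  · right; rw [zpow_add_one, zpow_mul, zpow_two, hx, one_zpow, one_mul]

variable {P Q : Subgroup G} {Gen : G → Prop} (hs : IsSwap H P Q y Gen)
include hs

theorem IsSwap.cj_sign_P {e : G} (he : e = y ∨ e = y⁻¹) : cj e P = P := by
  rcases he with rfl | rfl
  · exact hs.normP
  · exact cj_inv_self hs.normP

theorem IsSwap.V_le_P : oZ Q ≤ P := (oZ_le Q).trans hs.QP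

theorem IsSwap.V_normal_P [Finite G] : ∀ p ∈ P, cj p (oZ Q) = oZ Q :=
  fun _ hp => hs.cj_oZQ (hs.PH hp)

theorem IsSwap.cj_sign_V [Finite G] {e : G} (he : e = y ∨ e = y⁻¹) :
    cj e (oZ Q) = cj y (oZ Q) := by
  rcases he with rfl | rfl
  · rfl
  · exact hs.cj_yinv hs.V_le_P hs.V_normal_P

/-- Conjugation by an element of `P ∖ Q` inverts generators on conjugates of `yVy⁻¹`. -/
theorem IsSwap.swap [Finite G] {a k : G} (haP : a ∈ P) (haQ : a ∉ Q) (hk : Gen k) :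
    cj a (cj k (cj y (oZ Q))) = cj k⁻¹ (cj y (oZ Q)) := by
  have hn := hs.cj_y_normal hs.V_normal_P
  obtain ⟨q, hq, hqe⟩ := hs.gen_conj k hk a haP haQ
  have hkH := hs.gen_mem k hk
  have hq' : k * q * k⁻¹ ∈ Q := hs.conj_mem_Q hkH hq
  rw [cj_cj, show a * k = k⁻¹ * (k * q * k⁻¹) * a by
      calc a * k = (a * k * a⁻¹) * a := by group
        _ = k⁻¹ * (k * q * k⁻¹) * a := by rw [hqe]; group]
  rw [← cj_cj, hn a haP, ← cj_cj, hn _ (hs.QP hq')]

omit hs in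
/-- `V` and its conjugate by `g` do not commute. -/
def Crit (Q : Subgroup G) (g : G) : Prop :=
  ∃ u ∈ oZ Q, ∃ w ∈ cj g (oZ Q), u * w ≠ w * u

theorem IsSwap.crit_of_notLE [Finite G] (hZ : oZ P ≤ Q) {g h w : G} (hh : h ∈ H)
    (hwP : cj g (oZ Q) ≤ cj h P) (hw : w ∈ cj g (oZ Q)) (hwQ : w ∉ Q) : Crit Q g := by
  obtain ⟨p, hp, rfl⟩ := mem_cj_iff_exists.1 (hwP hw)
  have hpQ : p ∉ Q := fun h' => hwQ (hs.conj_mem_Q hh h')
  by_contra hcon
  unfold Crit at hcon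
  push Not at hcon
  refine hpQ (hs.centV hZ hp fun v hv => ?_)
  have := hcon _ (hs.conjV hh hv) _ hw
  calc p * v = h⁻¹ * ((h * p * h⁻¹) * (h * v * h⁻¹)) * h := by group
    _ = v * p := by rw [← this]; group

theorem IsSwap.crit_mul_left [Finite G] {g h : G} (hh : h ∈ H) (hg : Crit Q g) :
    Crit Q (h * g) := by
  obtain ⟨u, hu, w, hw, hne⟩ := hg
  refine ⟨h * u * h⁻¹, hs.conjV hh hu, h * w * h⁻¹, ?_, fun he => hne ?_⟩
  · rw [← cj_cj]; exact conj_mem_cj hw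
  · calc u * w = h⁻¹ * ((h * u * h⁻¹) * (h * w * h⁻¹)) * h := by group
      _ = w * u := by rw [he]; group

theorem IsSwap.crit_mul_right [Finite G] {g h : G} (hh : h ∈ H) (hg : Crit Q (g * h)) :
    Crit Q g := by
  obtain ⟨u, hu, w, hw, hne⟩ := hg
  refine ⟨u, hu, w, ?_, hne⟩
  rwa [← cj_cj, hs.cj_oZQ hh] at hw

theorem IsSwap.comm_V1 [Finite G] {z : G}
    (hc : ∀ p ∈ P, ∀ v ∈ oZ Q, p * v * p⁻¹ * v⁻¹ = 1 ∨ p * v * p⁻¹ * v⁻¹ = z)
    {p w : G} (hp : p ∈ P) (hw : w ∈ cj y (oZ Q)) :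
    p * w * p⁻¹ * w⁻¹ = 1 ∨ p * w * p⁻¹ * w⁻¹ = y * z * y⁻¹ := by
  obtain ⟨v, hv, rfl⟩ := mem_cj_iff_exists.1 hw
  have he : p * (y * v * y⁻¹) * p⁻¹ * (y * v * y⁻¹)⁻¹ =
      y * ((y⁻¹ * p * y) * v * (y⁻¹ * p * y)⁻¹ * v⁻¹) * y⁻¹ := by group
  rcases hc _ (hs.yinv_mem_P hp) v hv with h | h <;> rw [he, h]
  · exact Or.inl (by group)
  · exact Or.inr rfl

/-- The commutator of an element of `gVg⁻¹`, read at the last edge of `g`. -/
theorem IsSwap.comm_right [Finite G] {z : G} (hz2 : z * z = 1)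
    (hc : ∀ p ∈ P, ∀ v ∈ oZ Q, p * v * p⁻¹ * v⁻¹ = 1 ∨ p * v * p⁻¹ * v⁻¹ = z)
    {g'' e' h' u w : G} (he' : e' = y ∨ e' = y⁻¹) (hh' : h' ∈ H)
    (hu : g''⁻¹ * u * g'' ∈ P) (hw : w ∈ cj (g'' * e' * h') (oZ Q)) :
    w * u * w⁻¹ * u⁻¹ = 1 ∨ w * u * w⁻¹ * u⁻¹ = g'' * (y * z * y⁻¹) * g''⁻¹ := by
  rw [← cj_cj, hs.cj_oZQ hh', ← cj_cj, hs.cj_sign_V he'] at hw
  obtain ⟨w', hw', rfl⟩ := mem_cj_iff_exists.1 hw
  set u' := g''⁻¹ * u * g'' with hu'
  have he : g'' * w' * g''⁻¹ * u * (g'' * w' * g''⁻¹)⁻¹ * u⁻¹ =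
      g'' * (u' * w' * u'⁻¹ * w'⁻¹)⁻¹ * g''⁻¹ := by rw [hu']; group
  have hz1 : (y * z * y⁻¹)⁻¹ = y * z * y⁻¹ := by
    apply inv_eq_self_of_sq
    calc y * z * y⁻¹ * (y * z * y⁻¹) = y * (z * z) * y⁻¹ := by group
      _ = 1 := by rw [hz2]; group
  rcases hs.comm_V1 hc hu hw' with h | h <;> rw [he, h]
  · exact Or.inl (by group)
  · exact Or.inr (by rw [hz1])

/-- The key identity at a critical word. -/
theorem IsSwap.key [Finite G] {z : G} (hz2 : z * z = 1)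
    (hc : ∀ p ∈ P, ∀ v ∈ oZ Q, p * v * p⁻¹ * v⁻¹ = 1 ∨ p * v * p⁻¹ * v⁻¹ = z) {n : ℕ}
    (hmin : ∀ s ∈ words H y n, cj s (oZ Q) ≤ Q)
    {g h e g' g'' e' h' : G} (hg : Crit Q g) (hh : h ∈ H) (he : e = y ∨ e = y⁻¹)
    (hg' : g' ∈ words H y n) (hg'' : g'' ∈ words H y n) (he' : e' = y ∨ e' = y⁻¹) (hh' : h' ∈ H)
    (h1 : g = h * e * g') (h2 : g = g'' * e' * h') :
    h * z * h⁻¹ = g'' * (y * z * y⁻¹) * g''⁻¹ := by
  obtain ⟨u, hu, w, hw, hne⟩ := hg
  have hc1 : w * u * w⁻¹ * u⁻¹ ≠ 1 := by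
    rw [Ne, mul_inv_eq_one, mul_inv_eq_iff_eq_mul]
    exact fun h' => hne h'.symm
  have hu'' : g''⁻¹ * u * g'' ∈ P := by
    refine hs.QP (hmin _ (words_inv n hg'') ?_)
    have := conj_mem_cj (g := g''⁻¹) hu
    simpa using this
  have hR := (hs.comm_right hz2 hc he' hh' hu'' (h2 ▸ hw)).resolve_left hc1
  have hwP : w ∈ cj h P := by
    rw [h1, ← cj_cj, ← cj_cj] at hw
    rw [← hs.cj_sign_P he]
    exact cj_mono h (cj_mono e ((hmin g' hg').trans hs.QP)) hw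
  obtain ⟨w₀, hw₀, hw₀e⟩ := mem_cj_iff_exists.1 hwP
  subst hw₀e
  have hel : h * w₀ * h⁻¹ * u * (h * w₀ * h⁻¹)⁻¹ * u⁻¹ =
      h * (w₀ * (h⁻¹ * u * h) * w₀⁻¹ * (h⁻¹ * u * h)⁻¹) * h⁻¹ := by group
  rcases hc w₀ hw₀ _ (hs.conjV' hh hu) with h0 | h0
  · exact absurd (by rw [hel, h0]; group) hc1
  · rw [← hR, hel, h0]

/-- From a critical word to another one. -/
theorem IsSwap.step [Finite G] (hZ : oZ P ≤ Q) {z : G} (hzZ : z ∈ oZ P) (hz1 : z ≠ 1)
    (hc : ∀ p ∈ P, ∀ v ∈ oZ Q, p * v * p⁻¹ * v⁻¹ = 1 ∨ p * v * p⁻¹ * v⁻¹ = z) {m : ℕ}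
    (hmin : ∀ s ∈ words H y (m + 1), cj s (oZ Q) ≤ Q)
    {g e g' g'' e' h' g''' e'' h''' k : G} (hg : Crit Q g) (hk : Gen k)
    (he : e = y ∨ e = y⁻¹) (hg' : g' ∈ words H y (m + 1))
    (he' : e' = y ∨ e' = y⁻¹) (hh' : h' ∈ H) (hg''' : g''' ∈ words H y m)
    (he'' : e'' = y ∨ e'' = y⁻¹) (hh''' : h''' ∈ H)
    (h1 : g = e * g') (h2 : g = g'' * e' * h') (h3 : g'' = g''' * e'' * h''') :
    Crit Q (y⁻¹ * k⁻¹ * g'') := by
  by_contra hcon
  unfold Crit at hcon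
  push Not at hcon
  have hkH := hs.gen_mem k hk
  set V := oZ Q with hV
  have hg''w : g'' ∈ words H y (m + 1) := h3 ▸ words_append he'' hh''' m hg'''
  have hzV : z ∈ V := hs.oZP_le hZ hzZ
  have hkey : z = g'' * (y * z * y⁻¹) * g''⁻¹ := by
    have := hs.key hzV.2.1 hc hmin hg H.one_mem he hg' hg''w he' hh' (by rw [h1, one_mul]) h2
    simpa using this
  set W := cj k (cj y V) with hW
  have hcomm : ∀ x ∈ W, ∀ t ∈ cj g'' V, x * t = t * x := by
    intro x hx t ht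
    rw [hW, cj_cj] at hx
    obtain ⟨v, hv, rfl⟩ := mem_cj_iff_exists.1 hx
    have ht' : (k * y)⁻¹ * t * (k * y) ∈ cj (y⁻¹ * k⁻¹ * g'') V := by
      rw [← cj_cj, show y⁻¹ * k⁻¹ = (k * y)⁻¹ by group]
      have := conj_mem_cj (g := (k * y)⁻¹) ht
      simpa using this
    have := hcon v hv _ ht'
    calc k * y * v * (k * y)⁻¹ * t = k * y * (v * ((k * y)⁻¹ * t * (k * y))) * (k * y)⁻¹ := by
          group
      _ = t * (k * y * v * (k * y)⁻¹) := by rw [this]; group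
  -- `W ≤ g''Qg''⁻¹`
  have hWQ : ∀ x ∈ W, g''⁻¹ * x * g'' ∈ Q := by
    intro x hx
    have hwd : g'''⁻¹ * k * y * 1 ∈ words H y (m + 1) :=
      words_append (Or.inl rfl) H.one_mem m (words_mul_right hkH m (words_inv m hg'''))
    have hx1 : g'''⁻¹ * x * g''' ∈ Q := by
      refine hmin _ hwd ?_
      rw [mul_one, ← cj_cj, ← cj_cj, ← hW]
      have := conj_mem_cj (g := g'''⁻¹) hx
      simpa using this
    have hp : e''⁻¹ * (g'''⁻¹ * x * g''') * e'' ∈ P := by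
      have := conj_mem_of_cj_eq (hs.cj_sign_P (sign_inv he'')) (hs.QP hx1)
      simpa using this
    set p := e''⁻¹ * (g'''⁻¹ * x * g''') * e'' with hpdef
    have hpx : g''⁻¹ * x * g'' = h'''⁻¹ * p * h''' := by rw [hpdef, h3]; group
    have hpQ : p ∈ Q := by
      refine hs.centV hZ hp fun v hv => ?_
      have := hcomm x hx _ (conj_mem_cj (g := g'') (hs.conjV' hh''' hv))
      calc p * v = h''' * g''⁻¹ * (x * (g'' * (h'''⁻¹ * v * h''') * g''⁻¹)) * g'' * h'''⁻¹ := by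
            rw [hpdef, h3]; group
        _ = v * p := by rw [this, hpdef, h3]; group
    rw [hpx]
    have := hs.conj_mem_Q (inv_mem hh''') hpQ
    simpa using this
  -- an element of `gVg⁻¹` outside `Q`
  obtain ⟨u, hu, a, ha, hne⟩ := hg
  have haP : a ∈ P := by
    have hle : cj g V ≤ P := by
      rw [h1, ← cj_cj]
      exact (cj_mono e ((hmin g' hg').trans hs.QP)).trans (hs.cj_sign_P he).le
    exact hle ha
  have haQ : a ∉ Q := fun h => hne (hu.2.2 a h).symm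
  set T := cj y V ⊔ V with hT
  have hle : cj k⁻¹ (cj y V) ≤ W ⊔ V := by
    rw [← hs.swap haP haQ hk, ← hW]
    intro x hx
    obtain ⟨x₀, hx₀, rfl⟩ := mem_cj_iff_exists.1 hx
    rcases hs.comm_right hzV.2.1 hc he' hh' (hs.QP (hWQ x₀ hx₀)) (h2 ▸ ha) with h | h
    · rw [mul_inv_eq_one] at h; rw [h]; exact Subgroup.mem_sup_left hx₀
    · rw [mul_inv_eq_iff_eq_mul, ← hkey] at h; rw [h]
      exact mul_mem (Subgroup.mem_sup_right hzV) (Subgroup.mem_sup_left hx₀)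
  have hkV : cj k⁻¹ V = V := hs.cj_oZQ (inv_mem hkH)
  have hle2 : cj (k⁻¹ * k⁻¹) (cj y V) ≤ T := by
    have := cj_mono k⁻¹ hle
    rw [cj_cj, cj_sup, hkV, hW, cj_cj k⁻¹ k, inv_mul_cancel, cj_one] at this
    exact this
  have hk2 : cj (k⁻¹ * k⁻¹) T = T := by
    refine cj_eq_of_le ?_
    rw [hT, cj_sup, hs.cj_oZQ (mul_mem (inv_mem hkH) (inv_mem hkH))]
    exact sup_le hle2 le_sup_right
  have hTP : T ≤ P := sup_le ((cj_mono y hs.V_le_P).trans hs.normP.le) hs.V_le_P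
  have hT0 : T = ⊥ := hs.core' hTP
    (fun p hp => by rw [hT, cj_sup, hs.cj_y_normal hs.V_normal_P p hp, hs.V_normal_P p hp])
    (hs.gen_sq _ (hs.gen_inv k hk)) hk2
    (by rw [hT, cj_sup, hs.cj_ysq hs.V_le_P hs.V_normal_P, sup_comm])
  have : z ∈ T := Subgroup.mem_sup_right hzV
  rw [hT0, Subgroup.mem_bot] at this
  exact hz1 this

theorem IsSwap.caseC [Finite G] (hZ : oZ P ≤ Q) (hyV : cj y (oZ Q) ≤ Q) : False := by
  classical
  obtain ⟨z, hzZ, hz1, hzk, hc⟩ := hs.exists_z hZ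
  have hzV : z ∈ oZ Q := hs.oZP_le hZ hzZ
  have hz2 : z * z = 1 := hzV.2.1
  set V := oZ Q with hV
  set z1 := y * z * y⁻¹ with hz1d
  -- existence
  have hex : ∃ b, ∃ g ∈ words H y b, ¬ cj g V ≤ Q := by
    by_contra hcon
    push Not at hcon
    let S : Set G := {t | ∃ b, ∃ g ∈ words H y b, t ∈ cj g V}
    have hWQ : closure S ≤ Q := by
      rw [Subgroup.closure_le]
      rintro t ⟨b, g, hg, ht⟩
      exact hcon b g hg ht
    have hcl : ∀ c : G, (∀ b, ∀ g ∈ words H y b, ∃ b', c * g ∈ words H y b') →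
        cj c (closure S) = closure S := by
      intro c hcc
      refine cj_eq_of_le ?_
      rw [cj, MonoidHom.map_closure, Subgroup.closure_le]
      rintro _ ⟨t, ⟨b, g, hg, ht⟩, rfl⟩
      obtain ⟨b', hb'⟩ := hcc b g hg
      refine Subgroup.subset_closure ⟨b', _, hb', ?_⟩
      rw [← cj_cj]
      exact conj_mem_cj ht
    have hW0 := hs.core (closure S) (hWQ.trans hs.QP)
      (fun h hh => hcl h fun b g hg => ⟨b, words_mul_left hh b hg⟩)
      (hcl y fun b g hg => ⟨b + 1, by simpa using words_mk H.one_mem (Or.inl rfl) hg⟩)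
    have : z ∈ closure S :=
      Subgroup.subset_closure ⟨0, 1, words_one, by rw [cj_one]; exact hzV⟩
    rw [hW0, Subgroup.mem_bot] at this
    exact hz1 this
  obtain ⟨g, hgb, hgQ⟩ := Nat.find_spec hex
  have hmin : ∀ i < Nat.find hex, ∀ s ∈ words H y i, cj s V ≤ Q := by
    intro i hi s hsw
    by_contra hcon
    exact Nat.find_min hex hi ⟨s, hsw, hcon⟩
  rcases hb : Nat.find hex with - | - | m
  · rw [hb] at hgb
    exact hgQ ((hs.cj_oZQ (show g ∈ H from hgb)).le.trans (oZ_le Q))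
  · rw [hb] at hgb
    obtain ⟨h, hh, e, he, s, hsH, rfl⟩ := hgb
    refine hgQ ?_
    rw [← cj_cj, hs.cj_oZQ (show s ∈ H from hsH), ← cj_cj, hs.cj_sign_V he]
    exact (cj_mono h hyV).trans (hs.normQ h hh).le
  rw [hb] at hgb hmin
  have hm1 : ∀ s ∈ words H y (m + 1), cj s V ≤ Q := hmin (m + 1) (by omega)
  -- normalize on the left
  obtain ⟨h₀, hh₀, e, he, g', hg', rfl⟩ := hgb
  obtain ⟨w, hw, hwQ⟩ := SetLike.not_le_iff_exists.1 hgQ
  have hwP : cj (h₀ * e * g') V ≤ cj h₀ P := by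
    rw [← cj_cj, ← cj_cj]
    exact cj_mono h₀ ((cj_mono e ((hm1 g' hg').trans hs.QP)).trans (hs.cj_sign_P he).le)
  have hcrit0 := hs.crit_of_notLE hZ hh₀ hwP hw hwQ
  have hcrit : Crit Q (e * g') := by
    have := hs.crit_mul_left (inv_mem hh₀) hcrit0
    simpa [mul_assoc] using this
  obtain ⟨k, hk⟩ := hs.exists_gen
  have hkk := hs.gen_sq k hk
  rcases m with - | m
  · -- two letters
    obtain ⟨h₂, hh₂, e', he', h₃, hh₃, rfl⟩ := hg'
    have hcrit1 : Crit Q (e * h₂ * e') := by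
      refine hs.crit_mul_right (show h₃ ∈ H from hh₃) ?_
      simpa [mul_assoc] using hcrit
    obtain ⟨p, hp, i, rfl⟩ := hs.gen_decomp k hk h₂ hh₂
    have hepe : e * p * e⁻¹ ∈ P := conj_mem_of_cj_eq (hs.cj_sign_P he) hp
    set g1 := e * k ^ i * e' with hg1d
    have hcrit2 : Crit Q g1 := by
      have := hs.crit_mul_left (inv_mem (hs.PH hepe)) hcrit1
      convert this using 1
      rw [hg1d]; group
    have hkiH : k ^ i ∈ H := pow_mem (hs.gen_mem k hk) i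
    have hg1' : k ^ i * e' ∈ words H y 1 := by
      simpa using words_mk hkiH he' words_one
    have hsc : ∀ k₁, Gen k₁ → Crit Q (y⁻¹ * k₁⁻¹ * e) := by
      intro k₁ hk₁
      refine hs.crit_mul_right hkiH ?_
      have := hs.step hZ hzZ hz1 hc hm1 hcrit2 hk₁ he hg1' he' H.one_mem words_one he hkiH
        (g'' := e * k ^ i) (by rw [hg1d, mul_assoc]) (by rw [hg1d, mul_one]) (by rw [one_mul])
      simpa [mul_assoc] using this
    have hfix : ∀ k₁, Gen k₁ → k₁ * z1 = z1 * k₁ := by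
      intro k₁ hk₁
      have hk₁H := inv_mem (hs.gen_mem k₁ hk₁)
      have hw1 : y⁻¹ * k₁⁻¹ ∈ words H y 1 := by
        simpa using words_mk H.one_mem (Or.inr rfl) (show k₁⁻¹ ∈ words H y 0 from hk₁H)
      have hw2 : k₁⁻¹ * e ∈ words H y 1 := by
        simpa using words_mk hk₁H he words_one
      have hK := hs.key hz2 hc hm1 (hsc k₁ hk₁) H.one_mem (Or.inr rfl) hw2 hw1 he H.one_mem
        (by group) (by group)
      rw [one_mul, inv_one, mul_one, ← hz1d] at hK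
      calc k₁ * z1 = k₁ * (y * (y⁻¹ * k₁⁻¹ * z1 * (y⁻¹ * k₁⁻¹)⁻¹) * y⁻¹) := by rw [← hK, hz1d]
        _ = z1 * k₁ := by group
    -- `z1` is central in `H`
    have hz1Z : z1 ∈ oZ P := conj_mem_of_cj_eq hs.cj_y_oZP hzZ
    have hz1X : z1 ∈ fixV V k := mem_fixV.2 ⟨hs.oZP_le hZ hz1Z, hfix k hk⟩
    have hz1c : ∀ h ∈ H, h * z1 = z1 * h := fun h hh => hs.X_central hZ hk hz1X hh
    have hz12 : z1 * z1 = 1 := hz1Z.2.1
    set V1 := cj y V with hV1
    let S : Set G := {t | ∃ h ∈ H, ∃ v ∈ V1, h * v * h⁻¹ = t}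
    set U := closure S with hU
    have hcent : ∀ c ∈ zpowers z1, ∀ h ∈ H, h * c = c * h := fun c hc' h hh =>
      commute_of_mem_zpowers (hz1c h hh) hc'
    have hzmem : ∀ {c : G}, c = 1 ∨ c = z1 → c ∈ zpowers z1 := by
      rintro c (rfl | rfl)
      · exact one_mem _
      · exact mem_zpowers _
    have hUprop : ∀ u ∈ U, u ∈ Q ∧ u * u ∈ zpowers z1 ∧
        ∀ q ∈ Q, q * u * q⁻¹ * u⁻¹ ∈ zpowers z1 := by
      intro u hu
      induction hu using Subgroup.closure_induction with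
      | mem t ht =>
        obtain ⟨h, hh, v, hv, rfl⟩ := ht
        refine ⟨hs.conj_mem_Q hh (hyV hv), ?_, fun q hq => ?_⟩
        · obtain ⟨v', hv', rfl⟩ := mem_cj_iff_exists.1 hv
          have : h * (y * v' * y⁻¹) * h⁻¹ * (h * (y * v' * y⁻¹) * h⁻¹) =
              h * y * (v' * v') * y⁻¹ * h⁻¹ := by group
          rw [this, hv'.2.1]
          exact hzmem (Or.inl (by group))
        · have hq' : h⁻¹ * q * h ∈ P := by
            have := hs.conj_mem_Q (inv_mem hh) hq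
            exact hs.QP (by simpa using this)
          have he2 : q * (h * v * h⁻¹) * q⁻¹ * (h * v * h⁻¹)⁻¹ =
              h * ((h⁻¹ * q * h) * v * (h⁻¹ * q * h)⁻¹ * v⁻¹) * h⁻¹ := by group
          rw [he2]
          rcases hs.comm_V1 hc hq' hv with h' | h' <;> rw [h']
          · exact hzmem (Or.inl (by group))
          · rw [← hz1d, hz1c h hh, mul_inv_cancel_right]; exact mem_zpowers _
      | one => exact ⟨one_mem Q, by simp, fun q _ => by simp⟩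
      | mul a b _ _ ha hb =>
        refine ⟨mul_mem ha.1 hb.1, ?_, fun q hq => ?_⟩
        · have h1 : a * b * (a * b) = a * a * (a⁻¹ * b * a * b⁻¹) * (b * b) := by group
          have h2 : a⁻¹ * b * a * b⁻¹ ∈ zpowers z1 := by
            simpa using hb.2.2 a⁻¹ (inv_mem ha.1)
          rw [h1]
          exact mul_mem (mul_mem ha.2.1 h2) hb.2.1
        · have h1 : q * (a * b) * q⁻¹ * (a * b)⁻¹ =
              (q * a * q⁻¹ * a⁻¹) * (a * (q * b * q⁻¹ * b⁻¹) * a⁻¹) := by group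
          rw [h1, hcent _ (hb.2.2 q hq) a (hs.QH ha.1), mul_inv_cancel_right]
          exact mul_mem (ha.2.2 q hq) (hb.2.2 q hq)
      | inv a _ ha =>
        refine ⟨inv_mem ha.1, ?_, fun q hq => ?_⟩
        · rw [← mul_inv_rev]; exact inv_mem ha.2.1
        · have h1 : q * a⁻¹ * q⁻¹ * a⁻¹⁻¹ = a⁻¹ * (q * a * q⁻¹ * a⁻¹)⁻¹ * a := by group
          rw [h1, hcent _ (inv_mem (ha.2.2 q hq)) a⁻¹ (inv_mem (hs.QH ha.1)),
            inv_mul_cancel_right]
          exact inv_mem (ha.2.2 q hq)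
    have hUQ : U ≤ Q := fun u hu => (hUprop u hu).1
    have hUn : ∀ h ∈ H, cj h U = U := by
      intro h hh
      refine cj_eq_of_le ?_
      rw [hU, cj, MonoidHom.map_closure, Subgroup.closure_le]
      rintro _ ⟨t, ⟨h', hh', v, hv, rfl⟩, rfl⟩
      exact Subgroup.subset_closure ⟨h * h', mul_mem hh hh', v, hv, by simp [mul_assoc]⟩
    have hUP : U ≤ P := hUQ.trans hs.QP
    have hUnP : ∀ p ∈ P, cj p U = U := fun p hp => hUn p (hs.PH hp)
    have hconjU : ∀ h ∈ H, cj h V1 ≤ U := by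
      intro h hh t ht
      obtain ⟨v, hv, rfl⟩ := mem_cj_iff_exists.1 ht
      exact Subgroup.subset_closure ⟨h, hh, v, hv, rfl⟩
    set U1 := cj y U with hU1
    have hU1P : U1 ≤ P := (cj_mono y hUP).trans hs.normP.le
    have heU : cj e U = U1 := by
      rcases he with rfl | rfl
      · rfl
      · exact hs.cj_yinv hUP hUnP
    obtain ⟨u₀, hu₀, a, ha, hne₀⟩ := hcrit2
    have haQ : a ∉ Q := fun h => hne₀ (hu₀.2.2 a h).symm
    have haU1 : a ∈ U1 := by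
      rw [hg1d, ← cj_cj, ← cj_cj, hs.cj_sign_V he'] at ha
      rw [← heU]
      exact cj_mono e (hconjU _ hkiH) ha
    have haP : a ∈ P := hU1P haU1
    have ha2 : a * a = 1 := by
      obtain ⟨v, hv, rfl⟩ := mem_cj_iff_exists.1 ha
      calc g1 * v * g1⁻¹ * (g1 * v * g1⁻¹) = g1 * (v * v) * g1⁻¹ := by group
        _ = 1 := by rw [hv.2.1]; group
    -- a noncommuting pair
    obtain ⟨u₁, hu₁, t₁, ht₁, hne₁⟩ := hsc (k * k) hkk
    have hkH := hs.gen_mem k hk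
    set u := k * (y * u₁ * y⁻¹) * k⁻¹ with hud
    set t := k * (y * t₁ * y⁻¹) * k⁻¹ with htd
    have hu : u ∈ cj k V1 := conj_mem_cj (conj_mem_cj hu₁)
    have ht : t ∈ cj k⁻¹ V1 := by
      rw [← cj_cj, hs.cj_sign_V he, ← hV1] at ht₁
      have h1 := conj_mem_cj (g := k) (conj_mem_cj (g := y) ht₁)
      rw [cj_cj y, cj_cj k, show k * (y * (y⁻¹ * (k * k)⁻¹)) = k⁻¹ by group] at h1
      exact h1
    have hne : u * t ≠ t * u := fun h => hne₁ <| by
      calc u₁ * t₁ = y⁻¹ * k⁻¹ * (u * t) * k * y := by rw [hud, htd]; group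
        _ = t₁ * u₁ := by rw [h, hud, htd]; group
    set v := a * u * a⁻¹ with hvd
    have hv : v ∈ cj k⁻¹ V1 := by
      rw [hV1, ← hs.swap haP haQ hk]; exact conj_mem_cj hu
    have huQ : u ∈ Q := hUQ (hconjU k hkH hu)
    have htQ : t ∈ Q := hUQ (hconjU _ (inv_mem hkH) ht)
    have huV : u ∉ V := fun h => hne (h.2.2 t htQ).symm
    have htV : t ∉ V := fun h => hne (h.2.2 u huQ)
    have hvV : v ∉ V := fun h => huV <| by
      have := hs.conjV' (hs.PH haP) h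
      simpa [hvd, mul_assoc] using this
    have hvt : v⁻¹ * t ∈ V := by
      have hout : ∀ r ∈ cj k⁻¹ V1, r ∉ V → k * r * k⁻¹ ∈ V1 ∧ k * r * k⁻¹ ∉ oZ P := by
        intro r hr hrV
        obtain ⟨r₀, hr₀, rfl⟩ := mem_cj_iff_exists.1 hr
        have : k * (k⁻¹ * r₀ * k⁻¹⁻¹) * k⁻¹ = r₀ := by group
        rw [this]
        refine ⟨hr₀, fun h => hrV ?_⟩
        exact hs.conjV (inv_mem hkH) (hs.oZP_le hZ h)
      have hZV1 : oZ P ≤ V1 := by
        rw [← hs.cj_y_oZP]; exact cj_mono y (hs.oZP_le hZ)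
      have hcard : Nat.card V1 = 2 * Nat.card (oZ P) := by
        rw [hV1, card_cj, (hs.cards hZ hk).1]
      obtain ⟨hv1, hv2⟩ := hout v hv hvV
      obtain ⟨ht1, ht2⟩ := hout t ht htV
      have h1 := hs.oZP_le hZ (index2 hZV1 hcard hv1 ht1 hv2 ht2)
      have h2 := hs.conjV' hkH h1
      simpa [mul_assoc] using h2
    have huv : u * v ≠ v * u := fun h => hne <| by
      have h1 : u * (v⁻¹ * t) = (v⁻¹ * t) * u := hvt.2.2 u huQ
      calc u * t = (u * v) * (v⁻¹ * t) := by group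
        _ = v * (u * (v⁻¹ * t)) := by rw [h]; group
        _ = t * u := by rw [h1]; group
    have hu2 : u * u = 1 := by
      rw [hud]
      calc k * (y * u₁ * y⁻¹) * k⁻¹ * (k * (y * u₁ * y⁻¹) * k⁻¹)
          = k * y * (u₁ * u₁) * y⁻¹ * k⁻¹ := by group
        _ = 1 := by rw [hu₁.2.1]; group
    have hv2 : v * v = 1 := by
      rw [hvd]
      calc a * u * a⁻¹ * (a * u * a⁻¹) = a * (u * u) * a⁻¹ := by group
        _ = 1 := by rw [hu2]; group
    have hEU : u * v ∈ U := mul_mem (hconjU k hkH hu) (hconjU _ (inv_mem hkH) hv)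
    have hEU1 : u * v ∈ U1 := by
      have h1 : (u * a * u⁻¹) * a = u * v := by
        rw [hvd, inv_eq_self_of_sq hu2, inv_eq_self_of_sq ha2]; group
      rw [← h1]
      exact mul_mem (conj_mem_of_cj_eq (hs.cj_y_normal hUnP u (hs.QP huQ)) haU1) haU1
    have hsq1 := (hUprop _ hEU).2.1
    have hsq2 : u * v * (u * v) = 1 ∨ u * v * (u * v) = z := by
      obtain ⟨r, hr, hre⟩ := mem_cj_iff_exists.1 hEU1
      have h1 : u * v * (u * v) = y * (r * r) * y⁻¹ := by rw [← hre]; group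
      rcases eq_one_or_of_mem_zpowers hz12 (hUprop r hr).2.1 with h | h <;> rw [h1, h]
      · exact Or.inl (by group)
      · exact Or.inr (hs.ysq_fix (hs.V_le_P hzV) hzZ.2.2)
    have hzz1 : z1 ≠ z := fun h => hzk k hk (h ▸ hfix k hk)
    have hone : u * v * (u * v) = 1 := by
      rcases eq_one_or_of_mem_zpowers hz12 hsq1 with h | h
      · exact h
      · rcases hsq2 with h' | h'
        · exact h'
        · exact absurd (h.symm.trans h') hzz1
    apply huv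
    have := (inv_eq_self_of_sq hone).symm
    rwa [mul_inv_rev, inv_eq_self_of_sq hu2, inv_eq_self_of_sq hv2] at this
  · -- at least three letters
    have hg := words_mk H.one_mem he hg'
    rw [one_mul] at hg
    obtain ⟨g'', hg'', e', he', h', hh', h2⟩ := words_split _ hg
    obtain ⟨g''', hg''', e'', he'', h'', hh'', h3⟩ := words_split _ hg''
    obtain ⟨g4, hg4, e4, he4, h4, hh4, h4e⟩ := words_split _ hg'''
    have hF : ∀ k₁, Gen k₁ → ∀ k₂, Gen k₂ →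
        g4 * z1 * g4⁻¹ = k₂ * y * k₁ * z1 * k₁⁻¹ * y⁻¹ * k₂⁻¹ := by
      intro k₁ hk₁ k₂ hk₂
      have hk₁H := inv_mem (hs.gen_mem k₁ hk₁)
      have hk₂H := inv_mem (hs.gen_mem k₂ hk₂)
      set g2 := y⁻¹ * k₂⁻¹ * g'' with hg2
      have hcr2 : Crit Q g2 :=
        hs.step hZ hzZ hz1 hc hm1 hcrit hk₂ he hg' he' hh' hg''' he'' hh'' rfl h2 h3
      set g2'' := y⁻¹ * k₂⁻¹ * g''' with hg2''
      have hw2a : k₂⁻¹ * g'' ∈ words H y (m + 1 + 1) := words_mul_left hk₂H _ hg''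
      have hw2b : y⁻¹ * k₂⁻¹ * g4 ∈ words H y (m + 1) := by
        have := words_mk H.one_mem (Or.inr rfl) (words_mul_left hk₂H _ hg4)
        simpa [mul_assoc] using this
      set g3 := y⁻¹ * k₁⁻¹ * g2'' with hg3
      have hcr3 : Crit Q g3 :=
        hs.step hZ hzZ hz1 hc hm1 hcr2 hk₁ (Or.inr rfl) hw2a he'' hh'' hw2b he4 hh4
          (g'' := g2'') (by rw [hg2, mul_assoc]) (by rw [hg2, hg2'', h3]; group)
          (by rw [hg2'', h4e]; group)
      have hw3a : k₁⁻¹ * g2'' ∈ words H y (m + 1 + 1) := by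
        refine words_mul_left hk₁H _ ?_
        have := words_mk H.one_mem (Or.inr rfl) (words_mul_left hk₂H _ hg''')
        simpa [hg2'', mul_assoc] using this
      have hw3b : y⁻¹ * k₁⁻¹ * (y⁻¹ * k₂⁻¹ * g4) ∈ words H y (m + 1 + 1) := by
        have := words_mk H.one_mem (Or.inr rfl) (words_mul_left hk₁H _ hw2b)
        simpa [mul_assoc] using this
      have hK := hs.key hz2 hc hm1 hcr3 H.one_mem (Or.inr rfl) hw3a hw3b he4 hh4
        (by rw [hg3]; group) (by rw [hg3, hg2'', h4e]; group)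
      rw [one_mul, inv_one, mul_one, ← hz1d] at hK
      calc g4 * z1 * g4⁻¹ = (k₂ * y * k₁ * y) *
            (y⁻¹ * k₁⁻¹ * (y⁻¹ * k₂⁻¹ * g4) * z1 * (y⁻¹ * k₁⁻¹ * (y⁻¹ * k₂⁻¹ * g4))⁻¹) *
            (k₂ * y * k₁ * y)⁻¹ := by group
        _ = k₂ * y * k₁ * z1 * k₁⁻¹ * y⁻¹ * k₂⁻¹ := by rw [← hK, hz1d]; group
    have hz1fix : k * z1 = z1 * k := by
      have h := (hF k hk k hk).symm.trans (hF (k * k) hkk k hk)
      calc k * z1 = k⁻¹ * (k * y)⁻¹ *
            (k * y * (k * k) * z1 * (k * k)⁻¹ * y⁻¹ * k⁻¹) * (k * y) * k * k := by group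
        _ = z1 * k := by rw [← h]; group
    have hyz : y * z1 * y⁻¹ = z := by
      rw [hz1d]; exact hs.ysq_fix (hs.V_le_P hzV) hzZ.2.2
    have hF2 : ∀ k₂, Gen k₂ → g4 * z1 * g4⁻¹ = k₂ * z * k₂⁻¹ := by
      intro k₂ hk₂
      rw [hF k hk k₂ hk₂, ← hyz]
      calc k₂ * y * k * z1 * k⁻¹ * y⁻¹ * k₂⁻¹ = k₂ * y * (k * z1) * k⁻¹ * y⁻¹ * k₂⁻¹ := by group
        _ = k₂ * (y * z1 * y⁻¹) * k₂⁻¹ := by rw [hz1fix]; group
    refine hzk k hk ?_
    have h := (hF2 k hk).symm.trans (hF2 (k * k) hkk)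
    calc k * z = k⁻¹ * ((k * k) * z * (k * k)⁻¹) * k * k := by group
      _ = z * k := by rw [← h]; group

end Cfsg.Lib.Local.DihedralSwap
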