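import Mathlib
import Cfsg.Agent.Lib.Local.JComp.Local

/-!
# Subgroups with dihedral quotient modulo their 2-core and an outer element normalizing a Sylow

Abstract setting for statement S4385.
-/

namespace Cfsg.Lib.Local.DihedralSwap

open Subgroup

variable {G : Type*} [Group G]

/-- Conjugate of a subgroup. -/
def cj (g : G) (N : Subgroup G) : Subgroup G := N.map (MulAut.conj g).toMonoidHom

theorem mem_cj {g x : G} {N : Subgroup G} : x ∈ cj g N ↔ g⁻¹ * x * g ∈ N := by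
  unfold cj
  rw [Subgroup.mem_map_equiv]
  simp [MulAut.conj_symm_apply]

theorem conj_mem_cj {g x : G} {N : Subgroup G} (hx : x ∈ N) : g * x * g⁻¹ ∈ cj g N := by
  rw [mem_cj]; simpa [mul_assoc] using hx

theorem mem_cj_iff_exists {g x : G} {N : Subgroup G} :
    x ∈ cj g N ↔ ∃ v ∈ N, g * v * g⁻¹ = x :=
  ⟨fun h => ⟨_, mem_cj.1 h, by group⟩, fun ⟨v, hv, he⟩ => he ▸ conj_mem_cj hv⟩

theorem cj_cj (g h : G) (N : Subgroup G) : cj g (cj h N) = cj (g * h) N := by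
  ext x; simp [mem_cj, mul_assoc]

@[simp] theorem cj_one (N : Subgroup G) : cj 1 N = N := by
  ext x; simp [mem_cj]

theorem cj_mono (g : G) {A B : Subgroup G} (h : A ≤ B) : cj g A ≤ cj g B :=
  Subgroup.map_mono h

theorem cj_inf (g : G) (A B : Subgroup G) : cj g (A ⊓ B) = cj g A ⊓ cj g B := by
  ext x; simp [mem_cj, Subgroup.mem_inf]

theorem cj_sup (g : G) (A B : Subgroup G) : cj g (A ⊔ B) = cj g A ⊔ cj g B :=
  Subgroup.map_sup A B _

theorem cj_bot (g : G) : cj g (⊥ : Subgroup G) = ⊥ := Subgroup.map_bot _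

theorem card_cj (g : G) (N : Subgroup G) : Nat.card (cj g N) = Nat.card N :=
  Subgroup.card_map_of_injective (MulEquiv.injective _)

theorem cj_eq_self_of_mem {g : G} {N : Subgroup G} (hg : g ∈ N) : cj g N = N := by
  ext x
  rw [mem_cj]
  constructor
  · intro h
    have := N.mul_mem (N.mul_mem hg h) (N.inv_mem hg)
    simpa [mul_assoc] using this
  · intro h
    exact N.mul_mem (N.mul_mem (N.inv_mem hg) h) hg

theorem cj_eq_self_of_commute {g : G} {N : Subgroup G} (h : ∀ x ∈ N, g * x = x * g) :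
    cj g N = N := by
  ext x
  constructor
  · intro hx
    obtain ⟨v, hv, rfl⟩ := mem_cj_iff_exists.1 hx
    rwa [h v hv, mul_inv_cancel_right]
  · intro hx
    rw [mem_cj, mul_assoc, ← h x hx]
    simpa using hx

theorem cj_mul_self {g h : G} {N : Subgroup G} (hg : cj g N = N) (hh : cj h N = N) :
    cj (g * h) N = N := by
  rw [← cj_cj, hh, hg]

theorem cj_inv_self {g : G} {N : Subgroup G} (hg : cj g N = N) : cj g⁻¹ N = N := by
  nth_rw 1 [← hg]
  simp [cj_cj]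

theorem cj_pow_self {g : G} {N : Subgroup G} (hg : cj g N = N) : ∀ i : ℕ, cj (g ^ i) N = N
  | 0 => by simp
  | i + 1 => by rw [pow_succ]; exact cj_mul_self (cj_pow_self hg i) hg

theorem conj_mem_of_cj_eq {g x : G} {N : Subgroup G} (hg : cj g N = N) (hx : x ∈ N) :
    g * x * g⁻¹ ∈ N := by
  rw [← hg]; exact conj_mem_cj hx

theorem cj_eq_of_le [Finite G] {g : G} {N : Subgroup G} (h : cj g N ≤ N) : cj g N = N :=
  Subgroup.eq_of_le_of_card_ge h (by rw [card_cj])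

theorem card_mul_le [Finite G] {A B C : Subgroup G} (hA : A ≤ C) (hB : B ≤ C)
    (h : B ≤ normalizer (A : Set G)) :
    Nat.card A * Nat.card B ≤ Nat.card C * Nat.card ↥(A ⊓ B : Subgroup G) := by
  rw [← JComp.card_sup_mul_card_inf' h]
  exact Nat.mul_le_mul_right _ (Subgroup.card_le_of_le (sup_le hA hB))

theorem le_normalizer_of_cj {A B : Subgroup G} (h : ∀ x ∈ A, cj x B = B) :
    A ≤ normalizer (B : Set G) := by
  intro x hx
  rw [Subgroup.mem_normalizer_iff]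
  intro v
  constructor
  · exact fun hv => conj_mem_of_cj_eq (h x hx) hv
  · intro hv
    have := conj_mem_of_cj_eq (cj_inv_self (h x hx)) hv
    simpa [mul_assoc] using this

/-- The setting. `Gen k` means that `k` is an element of odd order of `H` whose image generates
the rotation subgroup of the dihedral quotient `H / Q`. -/
structure IsSwap (H P Q : Subgroup G) (y : G) (Gen : G → Prop) : Prop where
  PH : P ≤ H
  QP : Q ≤ P
  normQ : ∀ h ∈ H, cj h Q = Q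
  Q_ne : Q ≠ ⊥
  p2 : IsPGroup 2 P
  index_two : ∀ a ∈ P, a ∉ Q → ∀ b ∈ P, b ∉ Q → a⁻¹ * b ∈ Q
  cardP : Nat.card P = 2 * Nat.card Q
  exists_gen : ∃ k, Gen k
  gen_mem : ∀ k, Gen k → k ∈ H
  gen_odd : ∀ k, Gen k → Odd (orderOf k)
  gen_decomp : ∀ k, Gen k → ∀ h ∈ H, ∃ p ∈ P, ∃ i : ℕ, h = p * k ^ i
  gen_rot : ∀ k, Gen k → ∀ k₂, Gen k₂ → ∃ q ∈ Q, ∃ i : ℕ, k₂ = q * k ^ i
  gen_inv : ∀ k, Gen k → Gen k⁻¹
  gen_sq : ∀ k, Gen k → Gen (k * k)
  gen_conj : ∀ k, Gen k → ∀ a ∈ P, a ∉ Q → ∃ q ∈ Q, a * k * a⁻¹ = q * k⁻¹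
  gen_pair : ∀ k, Gen k → ∀ a ∈ P, a ∉ Q →
    ∃ k', Gen k' ∧ k' ∈ Subgroup.zpowers (a * (k * a * k⁻¹))
  odd_rot : ∀ k, Gen k → ∀ h ∈ H, Odd (orderOf h) → ∃ q ∈ Q, ∃ i : ℕ, h = q * k ^ i
  normP : cj y P = P
  ysq : ∃ p ∈ P, ∃ c : G, (∀ x ∈ P, c * x = x * c) ∧ y * y = p * c
  core : ∀ N : Subgroup G, N ≤ P → (∀ h ∈ H, cj h N = N) → cj y N = N → N = ⊥

variable {H P Q : Subgroup G} {y : G} {Gen : G → Prop} (hs : IsSwap H P Q y Gen)
include hs

theorem IsSwap.QH : Q ≤ H := hs.QP.trans hs.PH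

theorem IsSwap.cases_P {a p : G} (ha : a ∈ P) (haQ : a ∉ Q) (hp : p ∈ P) :
    p ∈ Q ∨ ∃ q ∈ Q, p = a * q := by
  by_cases h : p ∈ Q
  · exact Or.inl h
  · exact Or.inr ⟨a⁻¹ * p, hs.index_two a ha haQ p hp h, by simp⟩

theorem IsSwap.sq_mem_Q {a : G} (ha : a ∈ P) : a * a ∈ Q := by
  by_cases h : a ∈ Q
  · exact mul_mem h h
  · have := hs.index_two a⁻¹ (inv_mem ha) (fun h' => h (by simpa using inv_mem h')) a ha h
    simpa using this

theorem IsSwap.cj_P_of_H {N : Subgroup G} (h : ∀ p ∈ P, cj p N = N) {k : G} (hk : Gen k)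
    (hkN : cj k N = N) : ∀ x ∈ H, cj x N = N := by
  intro x hx
  obtain ⟨p, hp, i, rfl⟩ := hs.gen_decomp k hk x hx
  exact cj_mul_self (h p hp) (cj_pow_self hkN i)

/-- The main hypothesis, in the form in which it is used. -/
theorem IsSwap.core' {N : Subgroup G} (hNP : N ≤ P) (hP : ∀ p ∈ P, cj p N = N) {k : G}
    (hk : Gen k) (hkN : cj k N = N) (hy : cj y N = N) : N = ⊥ :=
  hs.core N hNP (hs.cj_P_of_H hP hk hkN) hy

theorem IsSwap.y_mem_P {x : G} (hx : x ∈ P) : y * x * y⁻¹ ∈ P :=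
  conj_mem_of_cj_eq hs.normP hx

theorem IsSwap.yinv_mem_P {x : G} (hx : x ∈ P) : y⁻¹ * x * y ∈ P := by
  have := conj_mem_of_cj_eq (cj_inv_self hs.normP) hx
  simpa using this

theorem IsSwap.cj_ysq {N : Subgroup G} (hNP : N ≤ P) (hP : ∀ p ∈ P, cj p N = N) :
    cj y (cj y N) = N := by
  obtain ⟨p, hp, c, hc, he⟩ := hs.ysq
  rw [cj_cj, he]
  exact cj_mul_self (hP p hp) (cj_eq_self_of_commute fun x hx => hc x (hNP hx))

theorem IsSwap.cj_yinv {N : Subgroup G} (hNP : N ≤ P) (hP : ∀ p ∈ P, cj p N = N) :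
    cj y⁻¹ N = cj y N := by
  conv_lhs => rw [← hs.cj_ysq hNP hP]
  rw [cj_cj, inv_mul_cancel, cj_one]

theorem IsSwap.ysq_fix {z : G} (hz : z ∈ P) (hzc : ∀ p ∈ P, p * z = z * p) :
    y * (y * z * y⁻¹) * y⁻¹ = z := by
  obtain ⟨p, hp, c, hc, he⟩ := hs.ysq
  calc y * (y * z * y⁻¹) * y⁻¹ = (y * y) * z * (y * y)⁻¹ := by group
    _ = p * (c * z) * (p * c)⁻¹ := by rw [he]; group
    _ = z := by rw [hc z hz, mul_inv_rev, ← mul_assoc, ← mul_assoc, hzc p hp]; group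

/-- Conjugates by `y` of subgroups normalized by `P` are normalized by `P`. -/
theorem IsSwap.cj_y_normal {N : Subgroup G} (hP : ∀ p ∈ P, cj p N = N) :
    ∀ p ∈ P, cj p (cj y N) = cj y N := by
  intro p hp
  have h := hP _ (hs.yinv_mem_P hp)
  calc cj p (cj y N) = cj y (cj (y⁻¹ * p * y) N) := by
        rw [cj_cj, cj_cj]; congr 1; group
    _ = cj y N := by rw [h]

theorem IsSwap.cj_Q_of_P {p : G} (hp : p ∈ P) : cj p Q = Q := hs.normQ p (hs.PH hp)

theorem IsSwap.conj_mem_Q {h x : G} (hh : h ∈ H) (hx : x ∈ Q) : h * x * h⁻¹ ∈ Q :=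
  conj_mem_of_cj_eq (hs.normQ h hh) hx

theorem IsSwap.pow_gen_eq_one {k : G} (hk : Gen k) {i : ℕ} (h : k ^ i ∈ P) : k ^ i = 1 := by
  obtain ⟨m, hm⟩ := hs.p2 ⟨k ^ i, h⟩
  have hm' : (k ^ i) ^ (2 ^ m) = 1 := congrArg Subtype.val hm
  have h1 : orderOf (k ^ i) ∣ 2 ^ m := orderOf_dvd_of_pow_eq_one hm'
  have h2 : orderOf (k ^ i) ∣ orderOf k := orderOf_pow_dvd i
  have h3 : Nat.Coprime (orderOf k) (2 ^ m) :=
    Nat.Coprime.pow_right m (Nat.coprime_two_right.2 (hs.gen_odd k hk))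
  exact orderOf_eq_one_iff.1 (Nat.eq_one_of_dvd_coprimes h3 h2 h1)

end Cfsg.Lib.Local.DihedralSwap
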