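import Cfsg.Agent.Lib.Local.DihedralSwap.Basic

/-!
# The action of a generator on the involutions of `Z(Q)`
-/

namespace Cfsg.Lib.Local.DihedralSwap

open Subgroup

variable {G : Type*} [Group G]

/-- The elements of `V` commuting with `k`. -/
def fixV (V : Subgroup G) (k : G) : Subgroup G := V ⊓ centralizer ({k} : Set G)

theorem mem_fixV {V : Subgroup G} {k x : G} : x ∈ fixV V k ↔ x ∈ V ∧ k * x = x * k := by
  rw [fixV, Subgroup.mem_inf, Subgroup.mem_centralizer_iff]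
  simp

variable {H P Q : Subgroup G} {y : G} {Gen : G → Prop} (hs : IsSwap H P Q y Gen)
include hs

theorem IsSwap.commV {u v : G} (hu : u ∈ oZ Q) (hv : v ∈ oZ Q) : u * v = v * u :=
  hv.2.2 u hu.1

theorem IsSwap.conjV [Finite G] {h v : G} (hh : h ∈ H) (hv : v ∈ oZ Q) :
    h * v * h⁻¹ ∈ oZ Q :=
  conj_mem_of_cj_eq (hs.cj_oZQ hh) hv

theorem IsSwap.conjV' [Finite G] {h v : G} (hh : h ∈ H) (hv : v ∈ oZ Q) :
    h⁻¹ * v * h ∈ oZ Q := by
  have := hs.conjV (inv_mem hh) hv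
  simpa using this

theorem IsSwap.fix_gen [Finite G] {k k₂ v : G} (hk : Gen k) (hk₂ : Gen k₂) (hv : v ∈ oZ Q)
    (h : k * v = v * k) : k₂ * v = v * k₂ := by
  obtain ⟨q, hq, i, rfl⟩ := hs.gen_rot k hk k₂ hk₂
  have hi : k ^ i * v = v * k ^ i := (Commute.pow_left h i).eq
  rw [mul_assoc, hi, ← mul_assoc, hv.2.2 q hq, mul_assoc]

theorem IsSwap.fixV_eq [Finite G] {k k₂ : G} (hk : Gen k) (hk₂ : Gen k₂) :
    fixV (oZ Q) k = fixV (oZ Q) k₂ := by
  ext v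
  rw [mem_fixV, mem_fixV]
  exact ⟨fun h => ⟨h.1, hs.fix_gen hk hk₂ h.1 h.2⟩, fun h => ⟨h.1, hs.fix_gen hk₂ hk h.1 h.2⟩⟩

/-- `v ↦ [k, v]` on `oZ Q`. -/
def IsSwap.dlt [Finite G] {k : G} (hk : Gen k) : ↥(oZ Q) →* G where
  toFun v := k * v * k⁻¹ * (v : G)⁻¹
  map_one' := by simp
  map_mul' := fun u v => by
    have hv1 := hs.conjV (hs.gen_mem k hk) v.2
    have hu2 := inv_mem u.2
    have h1 : (k * v * k⁻¹) * (u : G)⁻¹ = (u : G)⁻¹ * (k * v * k⁻¹) := hs.commV hv1 hu2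
    have h2 : ((u : G) * v)⁻¹ = (u : G)⁻¹ * (v : G)⁻¹ := by
      rw [hs.commV u.2 v.2, mul_inv_rev]
    calc k * ((u : G) * v) * k⁻¹ * ((u : G) * v)⁻¹
        = (k * u * k⁻¹) * ((k * v * k⁻¹) * (u : G)⁻¹) * (v : G)⁻¹ := by rw [h2]; group
      _ = k * u * k⁻¹ * (u : G)⁻¹ * (k * v * k⁻¹ * (v : G)⁻¹) := by rw [h1]; group

theorem IsSwap.dlt_apply [Finite G] {k : G} (hk : Gen k) (v : ↥(oZ Q)) :
    hs.dlt hk v = k * v * k⁻¹ * (v : G)⁻¹ := rfl

/-- The image of `v ↦ [k, v]`. -/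
def IsSwap.EV [Finite G] {k : G} (hk : Gen k) : Subgroup G := (hs.dlt hk).range

theorem IsSwap.mem_EV [Finite G] {k : G} (hk : Gen k) {e : G} :
    e ∈ hs.EV hk ↔ ∃ v ∈ oZ Q, k * v * k⁻¹ * v⁻¹ = e := by
  constructor
  · rintro ⟨v, rfl⟩; exact ⟨v, v.2, rfl⟩
  · rintro ⟨v, hv, rfl⟩; exact ⟨⟨v, hv⟩, rfl⟩

theorem IsSwap.EV_le [Finite G] {k : G} (hk : Gen k) : hs.EV hk ≤ oZ Q := by
  intro e he
  obtain ⟨v, hv, rfl⟩ := (hs.mem_EV hk).1 he
  exact mul_mem (hs.conjV (hs.gen_mem k hk) hv) (inv_mem hv)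

theorem IsSwap.EV_conj_gen [Finite G] {k : G} (hk : Gen k) {e : G} (he : e ∈ hs.EV hk) :
    k * e * k⁻¹ ∈ hs.EV hk := by
  obtain ⟨v, hv, rfl⟩ := (hs.mem_EV hk).1 he
  exact (hs.mem_EV hk).2 ⟨k * v * k⁻¹, hs.conjV (hs.gen_mem k hk) hv, by group⟩

/-- Elements of `EV` fixed by a generator are trivial. -/
theorem IsSwap.EV_fix [Finite G] {k : G} (hk : Gen k) {e k₂ : G} (hk₂ : Gen k₂)
    (he : e ∈ hs.EV hk) (hfix : k₂ * e = e * k₂) : e = 1 := by
  have heV := hs.EV_le hk he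
  have hke : k * e = e * k := hs.fix_gen hk₂ hk heV hfix
  obtain ⟨v, hv, hve⟩ := (hs.mem_EV hk).1 he
  have hstep : k * v * k⁻¹ = e * v := by rw [← hve]; group
  have hj : ∀ j : ℕ, k ^ j * v * (k ^ j)⁻¹ = e ^ j * v := by
    intro j
    induction j with
    | zero => simp
    | succ j ih =>
      have hje : k ^ j * e = e * k ^ j := (Commute.pow_left hke j).eq
      calc k ^ (j + 1) * v * (k ^ (j + 1))⁻¹
          = k ^ j * (k * v * k⁻¹) * (k ^ j)⁻¹ := by rw [pow_succ]; group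
        _ = e * (k ^ j * v * (k ^ j)⁻¹) := by rw [hstep, ← mul_assoc, hje]; group
        _ = e ^ (j + 1) * v := by rw [ih, pow_succ' e]; group
  have h1 : e ^ orderOf k = 1 := by
    have h := hj (orderOf k)
    rw [pow_orderOf_eq_one, one_mul, inv_one, mul_one] at h
    exact right_eq_mul.1 h
  obtain ⟨m, hm⟩ := hs.gen_odd k hk
  rw [hm, pow_succ, pow_mul, pow_two, heV.2.1, one_pow, one_mul] at h1
  exact h1

theorem IsSwap.gen_moves [Finite G] (hZ : oZ P ≤ Q) {k : G} (hk : Gen k) :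
    ∃ v ∈ oZ Q, k * v ≠ v * k := by
  by_contra hcon
  push Not at hcon
  refine hs.oZP_ne_bot (hs.core' (oZ_le P) (fun p hp => hs.cj_oZP hp) hk ?_ hs.cj_y_oZP)
  exact cj_eq_self_of_commute fun x hx => hcon x (hs.oZP_le hZ hx)

theorem IsSwap.card_split [Finite G] {k : G} (hk : Gen k) :
    Nat.card (oZ Q) = Nat.card (fixV (oZ Q) k) * Nat.card (hs.EV hk) := by
  have h1 := (hs.dlt hk).ker.card_eq_card_quotient_mul_card_subgroup
  rw [Nat.card_congr (QuotientGroup.quotientKerEquivRange (hs.dlt hk)).toEquiv] at h1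
  have h2 : Nat.card (hs.dlt hk).ker = Nat.card (fixV (oZ Q) k) := by
    rw [← Subgroup.card_map_of_injective (f := (oZ Q).subtype) Subtype.val_injective]
    have heq : Subgroup.map (oZ Q).subtype (hs.dlt hk).ker = fixV (oZ Q) k := by
      ext v
      rw [Subgroup.mem_map, mem_fixV]
      constructor
      · rintro ⟨⟨v, hv⟩, hker, rfl⟩
        rw [MonoidHom.mem_ker, hs.dlt_apply, mul_inv_eq_one, mul_inv_eq_iff_eq_mul] at hker
        exact ⟨hv, hker⟩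
      · rintro ⟨hv, hc⟩
        refine ⟨⟨v, hv⟩, ?_, rfl⟩
        rw [MonoidHom.mem_ker, hs.dlt_apply, mul_inv_eq_one, mul_inv_eq_iff_eq_mul]
        exact hc
    rw [heq]
  rw [h1, h2, mul_comm]; rfl

theorem IsSwap.p2V [Finite G] : IsPGroup 2 (oZ Q) := hs.p2.to_le ((oZ_le Q).trans hs.QP)

/-- The numerical facts. -/
theorem IsSwap.cards [Finite G] (hZ : oZ P ≤ Q) {k : G} (hk : Gen k) :
    Nat.card (oZ Q) = 2 * Nat.card (oZ P) ∧ Nat.card (hs.EV hk) = 4 ∧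
      fixV (oZ Q) k ≤ oZ P ∧ Nat.card (oZ Q) = 4 * Nat.card (fixV (oZ Q) k) := by
  obtain ⟨a, haP, haQ⟩ := hs.exists_notMem_Q
  obtain ⟨k', hk', hk'w⟩ := hs.gen_pair k hk a haP haQ
  have hkH := hs.gen_mem k hk
  set V := oZ Q with hV
  set Z := oZ P with hZd
  set X := fixV V k with hX
  have hZV : Z ≤ V := hs.oZP_le hZ
  have hkZV : cj k Z ≤ V := (cj_mono k hZV).trans (hs.cj_oZQ hkH).le
  have hsub : Z ⊓ cj k Z ≤ X := by
    intro v hv
    obtain ⟨hvZ, hvk⟩ := Subgroup.mem_inf.1 hv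
    obtain ⟨u, hu, hue⟩ := mem_cj_iff_exists.1 hvk
    have h1 : a * v = v * a := hvZ.2.2 a haP
    have h2 : (k * a * k⁻¹) * v = v * (k * a * k⁻¹) := by
      rw [← hue]
      calc k * a * k⁻¹ * (k * u * k⁻¹) = k * (a * u) * k⁻¹ := by group
        _ = k * (u * a) * k⁻¹ := by rw [hu.2.2 a haP]
        _ = k * u * k⁻¹ * (k * a * k⁻¹) := by group
    have h3 : v * (a * (k * a * k⁻¹)) = a * (k * a * k⁻¹) * v :=
      ((Commute.mul_left h1 h2).eq).symm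
    exact mem_fixV.2 ⟨hZV hvZ, hs.fix_gen hk' hk (hZV hvZ)
      (commute_of_mem_zpowers h3 hk'w).symm⟩
  have hn : cj k Z ≤ normalizer (Z : Set G) :=
    le_normalizer_of_cj fun x hx => cj_eq_self_of_commute fun z hz =>
      hs.commV (hkZV hx) (hZV hz)
  have h2 := card_mul_le hZV hkZV hn
  rw [card_cj] at h2
  have hXi : Nat.card ↥(Z ⊓ cj k Z : Subgroup G) ≤ Nat.card X := Subgroup.card_le_of_le hsub
  have h1 : Nat.card V ≤ 2 * Nat.card Z := hs.card_oZQ_le hZ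
  have hsp : Nat.card V = Nat.card X * Nat.card (hs.EV hk) := hs.card_split hk
  have hX0 : 0 < Nat.card X := Nat.card_pos
  have hV0 : 0 < Nat.card V := Nat.card_pos
  have h3 : Nat.card V ≤ 4 * Nat.card ↥(Z ⊓ cj k Z : Subgroup G) := by
    have : Nat.card V * Nat.card V ≤ Nat.card V * (4 * Nat.card ↥(Z ⊓ cj k Z : Subgroup G)) := by
      calc Nat.card V * Nat.card V ≤ (2 * Nat.card Z) * (2 * Nat.card Z) := Nat.mul_le_mul h1 h1
        _ = 4 * (Nat.card Z * Nat.card Z) := by ring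
        _ ≤ 4 * (Nat.card V * Nat.card ↥(Z ⊓ cj k Z : Subgroup G)) := Nat.mul_le_mul_left 4 h2
        _ = _ := by ring
    exact Nat.le_of_mul_le_mul_left this hV0
  have hE2 : ∃ m, Nat.card (hs.EV hk) = 2 ^ m := by
    haveI : Fact (Nat.Prime 2) := ⟨Nat.prime_two⟩
    exact IsPGroup.exists_card_eq (hs.p2V.to_le (hs.EV_le hk))
  have hE4 : 4 ≤ Nat.card (hs.EV hk) := by
    obtain ⟨v, hv, hne⟩ := hs.gen_moves hZ hk
    have he : k * v * k⁻¹ * v⁻¹ ∈ hs.EV hk := (hs.mem_EV hk).2 ⟨v, hv, rfl⟩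
    have he1 : k * v * k⁻¹ * v⁻¹ ≠ 1 := by
      rwa [Ne, mul_inv_eq_one, mul_inv_eq_iff_eq_mul]
    obtain ⟨m, hm⟩ := hE2
    rcases m with - | - | m
    · have hb : hs.EV hk = ⊥ := Subgroup.eq_bot_of_card_le _ (by rw [hm]; norm_num)
      rw [hb, Subgroup.mem_bot] at he
      exact absurd he he1
    · exfalso
      set e := k * v * k⁻¹ * v⁻¹ with hee
      have hke := hs.EV_conj_gen hk he
      have hke1 : k * e * k⁻¹ ≠ 1 := by simpa using he1
      have hu : ∀ x : ↥(hs.EV hk), x ≠ 1 → x = ⟨e, he⟩ := by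
        intro x hx
        by_contra hne
        have : 3 ≤ Nat.card ↥(hs.EV hk) := by
          classical
          haveI := Fintype.ofFinite ↥(hs.EV hk)
          rw [Nat.card_eq_fintype_card]
          have hc : ({1, x, ⟨e, he⟩} : Finset ↥(hs.EV hk)).card = 3 := by
            rw [Finset.card_eq_three]
            exact ⟨1, x, ⟨e, he⟩, hx.symm, fun h => he1 (congrArg Subtype.val h).symm, hne, rfl⟩
          exact hc ▸ Finset.card_le_univ _
        omega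
      have := congrArg Subtype.val (hu ⟨_, hke⟩ fun h => hke1 (congrArg Subtype.val h))
      exact he1 (hs.EV_fix hk hk he (mul_inv_eq_iff_eq_mul.1 this))
    · rw [hm]; calc 4 = 2 ^ 2 := rfl
        _ ≤ 2 ^ (m + 2) := Nat.pow_le_pow_right (by norm_num) (by omega)
  have hVX : Nat.card V = 4 * Nat.card X := by
    refine le_antisymm (h3.trans (Nat.mul_le_mul_left 4 hXi)) ?_
    rw [hsp, mul_comm 4]; exact Nat.mul_le_mul_left _ hE4
  have hE : Nat.card (hs.EV hk) = 4 :=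
    Nat.eq_of_mul_eq_mul_left hX0 (by rw [← hsp, hVX, mul_comm])
  have heq : Z ⊓ cj k Z = X := Subgroup.eq_of_le_of_card_ge hsub (by omega)
  refine ⟨le_antisymm h1 ?_, hE, heq ▸ inf_le_left, hVX⟩
  have : (2 * Nat.card Z) * (2 * Nat.card Z) ≤ Nat.card V * Nat.card V := by
    calc (2 * Nat.card Z) * (2 * Nat.card Z) = 4 * (Nat.card Z * Nat.card Z) := by ring
      _ ≤ 4 * (Nat.card V * Nat.card ↥(Z ⊓ cj k Z : Subgroup G)) := Nat.mul_le_mul_left 4 h2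
      _ = Nat.card V * Nat.card V := by rw [heq]; nth_rw 3 [hVX]; ring
  exact Nat.mul_self_le_mul_self_iff.1 this

theorem IsSwap.X_central [Finite G] (hZ : oZ P ≤ Q) {k x h : G} (hk : Gen k)
    (hx : x ∈ fixV (oZ Q) k) (hh : h ∈ H) : h * x = x * h := by
  obtain ⟨p, hp, i, rfl⟩ := hs.gen_decomp k hk h hh
  have h1 : p * x = x * p := ((hs.cards hZ hk).2.2.1 hx).2.2 p hp
  have h2 : k ^ i * x = x * k ^ i := (Commute.pow_left (mem_fixV.1 hx).2 i).eq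
  rw [mul_assoc, h2, ← mul_assoc, h1, mul_assoc]

theorem IsSwap.X_inf_E [Finite G] {k : G} (hk : Gen k) : fixV (oZ Q) k ⊓ hs.EV hk = ⊥ := by
  refine (Subgroup.eq_bot_iff_forall _).2 fun e he => ?_
  obtain ⟨h1, h2⟩ := Subgroup.mem_inf.1 he
  exact hs.EV_fix hk hk h2 (mem_fixV.1 h1).2

theorem IsSwap.V_split [Finite G] {k v : G} (hk : Gen k) (hv : v ∈ oZ Q) :
    ∃ x ∈ fixV (oZ Q) k, ∃ e ∈ hs.EV hk, x * e = v := by
  have hXV : fixV (oZ Q) k ≤ oZ Q := inf_le_left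
  have hn : fixV (oZ Q) k ≤ normalizer (hs.EV hk : Set G) :=
    le_normalizer_of_cj fun x hx => cj_eq_self_of_commute fun e he =>
      hs.commV (hXV hx) (hs.EV_le hk he)
  have hn' : hs.EV hk ≤ normalizer (fixV (oZ Q) k : Set G) :=
    le_normalizer_of_cj fun e he => cj_eq_self_of_commute fun x hx =>
      hs.commV (hs.EV_le hk he) (hXV hx)
  have hc := JComp.card_sup_mul_card_inf' hn'
  rw [hs.X_inf_E hk, Subgroup.card_bot, mul_one, ← hs.card_split hk] at hc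
  have : fixV (oZ Q) k ⊔ hs.EV hk = oZ Q :=
    Subgroup.eq_of_le_of_card_ge (sup_le hXV (hs.EV_le hk)) hc.ge
  rw [← this] at hv
  exact (Core.mem_sup_of_le_normalizer hn).1 hv

/-- The cube of a generator centralizes `oZ Q`. -/
theorem IsSwap.cube [Finite G] (hZ : oZ P ≤ Q) {k v : G} (hk : Gen k) (hv : v ∈ oZ Q) :
    k ^ 3 * v = v * k ^ 3 := by
  obtain ⟨x, hx, e, he, rfl⟩ := hs.V_split hk hv
  have hx3 : Commute (k ^ 3) x := Commute.pow_left (mem_fixV.1 hx).2 3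
  suffices Commute (k ^ 3) e from (hx3.mul_right this).eq
  rcases eq_or_ne e 1 with rfl | he1
  · exact Commute.one_right _
  classical
  haveI := Fintype.ofFinite ↥(hs.EV hk)
  have hcard : Fintype.card ↥(hs.EV hk) = 4 := by
    rw [← Nat.card_eq_fintype_card]; exact (hs.cards hZ hk).2.1
  let T : ↥(hs.EV hk) → ↥(hs.EV hk) := fun u => ⟨k * u * k⁻¹, hs.EV_conj_gen hk u.2⟩
  have hT1 : ∀ u, T u = u → u = 1 := fun u h =>
    Subtype.ext (hs.EV_fix hk hk u.2 (mul_inv_eq_iff_eq_mul.1 (congrArg Subtype.val h)))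
  have hT2 : ∀ u, T (T u) = u → u = 1 := fun u h => by
    refine Subtype.ext (hs.EV_fix hk (hs.gen_sq k hk) u.2 ?_)
    rw [← mul_inv_eq_iff_eq_mul]
    have h' : k * (k * u * k⁻¹) * k⁻¹ = u := congrArg Subtype.val h
    rw [mul_inv_rev]; simpa [mul_assoc] using h'
  have hT0 : ∀ u, T u = 1 → u = 1 := fun u h => Subtype.ext <| by
    simpa [T] using congrArg Subtype.val h
  set e1 : ↥(hs.EV hk) := ⟨e, he⟩ with he1d
  have hne : e1 ≠ 1 := fun h => he1 (congrArg Subtype.val h)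
  have hne2 : T e1 ≠ 1 := fun h => hne (hT0 _ h)
  have hne3 : T (T e1) ≠ 1 := fun h => hne2 (hT0 _ h)
  have huniv : ({1, e1, T e1, T (T e1)} : Finset ↥(hs.EV hk)) = Finset.univ := by
    refine Finset.eq_univ_of_card _ ?_
    rw [hcard, Finset.card_insert_of_notMem, Finset.card_insert_of_notMem,
      Finset.card_insert_of_notMem, Finset.card_singleton]
    · simpa using fun h => hne2 (hT1 _ h.symm)
    · simp only [Finset.mem_insert, Finset.mem_singleton, not_or]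
      exact ⟨fun h => hne (hT1 _ h.symm), fun h => hne (hT2 _ h.symm)⟩
    · simp only [Finset.mem_insert, Finset.mem_singleton, not_or]
      exact ⟨hne.symm, hne2.symm, hne3.symm⟩
  have h4 : T (T (T e1)) = e1 := by
    have := Finset.mem_univ (T (T (T e1)))
    rw [← huniv] at this
    simp only [Finset.mem_insert, Finset.mem_singleton] at this
    rcases this with h | h | h | h
    · exact absurd (hT0 _ h) hne3
    · exact h
    · exact absurd (hT2 _ h) hne2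
    · exact absurd (hT1 _ h) hne3
  have h5 : k * (k * (k * e * k⁻¹) * k⁻¹) * k⁻¹ = e := congrArg Subtype.val h4
  refine mul_inv_eq_iff_eq_mul.1 ?_
  calc k ^ 3 * e * (k ^ 3)⁻¹ = k * (k * (k * e * k⁻¹) * k⁻¹) * k⁻¹ := by simp only [pow_succ, pow_zero, one_mul]; group
    _ = e := h5

theorem IsSwap.three_dvd [Finite G] (hZ : oZ P ≤ Q) {k : G} (hk : Gen k) {i : ℕ}
    (h : ∀ v ∈ oZ Q, k ^ i * v = v * k ^ i) : 3 ∣ i := by
  obtain ⟨v, hv, hne⟩ := hs.gen_moves hZ hk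
  by_contra hi
  have h3 : Commute (k ^ (3 * (i / 3))) v := by
    rw [pow_mul]; exact Commute.pow_left (hs.cube hZ hk hv) _
  have hr : Commute (k ^ (i % 3)) v := by
    have : k ^ (i % 3) = (k ^ (3 * (i / 3)))⁻¹ * k ^ i := by
      rw [eq_inv_mul_iff_mul_eq, ← pow_add, Nat.div_add_mod]
    rw [this]; exact h3.inv_left.mul_left (h v hv)
  rcases (by omega : i % 3 = 1 ∨ i % 3 = 2) with h1 | h1 <;> rw [h1] at hr
  · rw [pow_one] at hr; exact hne hr.eq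
  · rw [pow_two] at hr; exact hne (hs.fix_gen (hs.gen_sq k hk) hk hv hr.eq)

theorem IsSwap.EV_normal [Finite G] {k h : G} (hk : Gen k) (hh : h ∈ H) :
    cj h (hs.EV hk) = hs.EV hk := by
  refine hs.cj_P_of_H (fun p hp => ?_) hk (cj_eq_of_le fun e he => ?_) h hh
  · refine cj_eq_of_le fun e he => ?_
    obtain ⟨e₀, he₀, rfl⟩ := mem_cj_iff_exists.1 he
    by_cases hpQ : p ∈ Q
    · rwa [(hs.EV_le hk he₀).2.2 p hpQ, mul_inv_cancel_right]
    obtain ⟨v, hv, rfl⟩ := (hs.mem_EV hk).1 he₀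
    obtain ⟨q, hq, hqe⟩ := hs.gen_conj k hk p hp hpQ
    have hkH := hs.gen_mem k hk
    set v1 := p * v * p⁻¹ with hv1
    have hv1V : v1 ∈ oZ Q := hs.conjV (hs.PH hp) hv
    have hw : k⁻¹ * v1 * k ∈ oZ Q := hs.conjV' hkH hv1V
    refine (hs.mem_EV hk).2 ⟨(k⁻¹ * v1 * k)⁻¹, inv_mem hw, ?_⟩
    have hb : q * (k⁻¹ * v1 * k) * q⁻¹ = k⁻¹ * v1 * k := by
      rw [hw.2.2 q hq, mul_inv_cancel_right]
    calc k * (k⁻¹ * v1 * k)⁻¹ * k⁻¹ * ((k⁻¹ * v1 * k)⁻¹)⁻¹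
        = v1⁻¹ * (k⁻¹ * v1 * k) := by group
      _ = (k⁻¹ * v1 * k) * v1⁻¹ := hs.commV (inv_mem hv1V) hw
      _ = q * (k⁻¹ * v1 * k) * q⁻¹ * v1⁻¹ := by rw [hb]
      _ = (q * k⁻¹) * v1 * (q * k⁻¹)⁻¹ * v1⁻¹ := by group
      _ = p * (k * v * k⁻¹ * v⁻¹) * p⁻¹ := by rw [← hqe, hv1]; group
  · obtain ⟨e₀, he₀, rfl⟩ := mem_cj_iff_exists.1 he
    exact hs.EV_conj_gen hk he₀

/-- The nontrivial commutator of `oZ Q` and `P`. -/
theorem IsSwap.exists_z [Finite G] (hZ : oZ P ≤ Q) :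
    ∃ z ∈ oZ P, z ≠ 1 ∧ (∀ k, Gen k → k * z ≠ z * k) ∧
      (∀ p ∈ P, ∀ v ∈ oZ Q, p * v * p⁻¹ * v⁻¹ = 1 ∨ p * v * p⁻¹ * v⁻¹ = z) := by
  obtain ⟨a, haP, haQ⟩ := hs.exists_notMem_Q
  obtain ⟨k, hk⟩ := hs.exists_gen
  have hcard := (hs.cards hZ hk).1
  have hZV : oZ P ≤ oZ Q := hs.oZP_le hZ
  obtain ⟨v₀, hv₀, hv₀Z⟩ : ∃ v ∈ oZ Q, v ∉ oZ P := by
    by_contra hcon
    push Not at hcon
    have := Subgroup.card_le_of_le (show oZ Q ≤ oZ P from hcon)
    have h0 : 0 < Nat.card (oZ P) := Nat.card_pos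
    omega
  set z := a * v₀ * a⁻¹ * v₀⁻¹ with hz
  have hav : a * v₀ * a⁻¹ ∈ oZ Q := hs.conjV (hs.PH haP) hv₀
  have hzV : z ∈ oZ Q := mul_mem hav (inv_mem hv₀)
  have hz1 : z ≠ 1 := by
    intro h
    rw [hz, mul_inv_eq_one, mul_inv_eq_iff_eq_mul] at h
    exact hv₀Z (hs.mem_oZP (oZ_le Q) haP haQ hv₀ h)
  have hzZ : z ∈ oZ P := by
    refine hs.mem_oZP (oZ_le Q) haP haQ hzV (mul_inv_eq_iff_eq_mul.1 ?_)
    have haa : a * a * v₀ * (a * a)⁻¹ = v₀ := by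
      rw [hv₀.2.2 _ (hs.sq_mem_Q haP), mul_inv_cancel_right]
    calc a * z * a⁻¹ = (a * a * v₀ * (a * a)⁻¹) * (a * v₀ * a⁻¹)⁻¹ := by rw [hz]; group
      _ = v₀ * (a * v₀ * a⁻¹)⁻¹ := by rw [haa]
      _ = (a * v₀ * a⁻¹ * v₀⁻¹)⁻¹ := by group
      _ = z := by rw [← hz, inv_eq_self_of_sq hzV.2.1]
  refine ⟨z, hzZ, hz1, fun k' hk' h => hz1 ?_, fun p hp v hv => ?_⟩
  · have hzE : z ∈ hs.EV hk' := by
      obtain ⟨x, hx, e, he, hxe⟩ := hs.V_split hk' hv₀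
      have hax : a * x * a⁻¹ = x := by
        rw [hs.X_central hZ hk' hx (hs.PH haP), mul_inv_cancel_right]
      have : z = a * e * a⁻¹ * e⁻¹ := by
        have hae : a * e * a⁻¹ ∈ oZ Q := hs.conjV (hs.PH haP) (hs.EV_le hk' he)
        calc z = (a * x * a⁻¹) * ((a * e * a⁻¹) * e⁻¹) * x⁻¹ := by rw [hz, ← hxe]; group
          _ = x * (x⁻¹ * ((a * e * a⁻¹) * e⁻¹)) := by
            rw [hax, mul_assoc, hs.commV (mul_mem hae (inv_mem (hs.EV_le hk' he)))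
              (inv_mem (mem_fixV.1 hx).1)]
          _ = a * e * a⁻¹ * e⁻¹ := by group
      rw [this]
      exact mul_mem (conj_mem_of_cj_eq (hs.EV_normal hk' (hs.PH haP)) he) (inv_mem he)
    exact hs.EV_fix hk' hk' hzE h
  · rcases hs.cases_P haP haQ hp with hpQ | ⟨q, hq, rfl⟩
    · exact Or.inl (by rw [hv.2.2 p hpQ]; group)
    have hred : a * q * v * (a * q)⁻¹ * v⁻¹ = a * v * a⁻¹ * v⁻¹ := by
      calc a * q * v * (a * q)⁻¹ * v⁻¹ = a * (q * v) * q⁻¹ * a⁻¹ * v⁻¹ := by group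
        _ = a * (v * q) * q⁻¹ * a⁻¹ * v⁻¹ := by rw [hv.2.2 q hq]
        _ = a * v * a⁻¹ * v⁻¹ := by group
    rw [hred]
    by_cases hvZ : v ∈ oZ P
    · exact Or.inl (by rw [hvZ.2.2 a haP]; group)
    · right
      have hw := index2 hZV hcard hv₀ hv hv₀Z hvZ
      have hwc : a * (v₀⁻¹ * v) * a⁻¹ = v₀⁻¹ * v := by
        rw [hw.2.2 a haP, mul_inv_cancel_right]
      calc a * v * a⁻¹ * v⁻¹ = (a * v₀ * a⁻¹) * (a * (v₀⁻¹ * v) * a⁻¹) * v⁻¹ := by group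
        _ = z := by rw [hwc, hz]; group

theorem IsSwap.centV [Finite G] (hZ : oZ P ≤ Q) {p : G} (hp : p ∈ P)
    (h : ∀ v ∈ oZ Q, p * v = v * p) : p ∈ Q := by
  by_contra hpQ
  obtain ⟨k, hk⟩ := hs.exists_gen
  have hle : oZ Q ≤ oZ P := fun v hv => hs.mem_oZP (oZ_le Q) hp hpQ hv (h v hv)
  have := Subgroup.card_le_of_le hle
  have h0 : 0 < Nat.card (oZ P) := Nat.card_pos
  have := (hs.cards hZ hk).1
  omega

theorem IsSwap.card_X_le [Finite G] (hZ : oZ P ≤ Q) {k : G} (hk : Gen k) :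
    Nat.card (fixV (oZ Q) k) ≤ 2 := by
  obtain ⟨hc1, -, hXZ, hc2⟩ := hs.cards hZ hk
  set X := fixV (oZ Q) k with hX
  have hXP : ∀ p ∈ P, cj p X = X := fun p hp =>
    cj_eq_self_of_commute fun x hx => hs.X_central hZ hk hx (hs.PH hp)
  have hXleP : X ≤ P := hXZ.trans (oZ_le P)
  have hI : X ⊓ cj y X = ⊥ := by
    refine hs.core' (inf_le_left.trans hXleP)
      (fun p hp => by rw [cj_inf, hXP p hp, hs.cj_y_normal hXP p hp]) hk ?_ ?_
    · exact cj_eq_self_of_commute fun x hx => (mem_fixV.1 (Subgroup.mem_inf.1 hx).1).2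
    · rw [cj_inf, hs.cj_ysq hXleP hXP, inf_comm]
  have hyX : cj y X ≤ oZ P := (cj_mono y hXZ).trans hs.cj_y_oZP.le
  have h := card_mul_le hXZ hyX (le_normalizer_of_cj fun u hu =>
    cj_eq_self_of_commute fun x hx => (hXleP hx |> fun h' => (hyX hu).2.2 x h').symm)
  rw [hI, card_cj, Subgroup.card_bot, mul_one] at h
  have h0 : 0 < Nat.card X := Nat.card_pos
  exact Nat.le_of_mul_le_mul_right (show Nat.card X * Nat.card X ≤ 2 * Nat.card X by omega) h0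

end Cfsg.Lib.Local.DihedralSwap
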